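import Cfsg.Agent.Classical.SympElem.PrimeOrder

/-!
# Invariant subspaces of symplectic involutions and of isometries with square `-1`
-/

set_option autoImplicit false

namespace Cfsg.Agent.Classical.SympElem

open Module Polynomial Cfsg.Agent.SympConj

universe u v

variable {F : Type u} [Field F] {V : Type v} [AddCommGroup V] [Module F V] [FiniteDimensional F V]
  {B : LinearMap.BilinForm F V} {a : Module.End F V} {d : ℕ}

theorem inv_span {s : Set V} (h : ∀ w ∈ s, a w ∈ Submodule.span F s) : Inv a (Submodule.span F s) := by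
  suffices h' : (Submodule.span F s).map a ≤ Submodule.span F s from fun w hw => h' ⟨w, hw, rfl⟩
  rw [Submodule.map_span, Submodule.span_le]
  rintro _ ⟨w, hw, rfl⟩
  exact h w hw

theorem ndon_span_range {k : ℕ} (g : Fin k → V)
    (h : ∀ c : Fin k → F, (∀ j, ∑ l, c l * B (g l) (g j) = 0) → c = 0) :
    Alt.NDon B (Submodule.span F (Set.range g)) ∧ finrank F (Submodule.span F (Set.range g)) = k := by
  refine ⟨fun x hx h0 => ?_, ?_⟩
  · obtain ⟨c, rfl⟩ := (Submodule.mem_span_range_iff_exists_fun F).1 hx
    by_contra hc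
    push Not at hc
    refine h0 ?_
    rw [h c fun j => by simpa [map_sum, LinearMap.sum_apply] using hc _ (Submodule.subset_span ⟨j, rfl⟩)]
    simp
  · rw [finrank_span_eq_card (Fintype.linearIndependent_iff.2 fun c hc j => ?_), Fintype.card_fin]
    exact congrFun (h c fun l => by
      have := congrArg (fun x => B x (g l)) hc
      simpa [map_sum, LinearMap.sum_apply] using this) j

theorem mv_involution (har : a ^ 2 = 1) {x : V} (hx : x ∈ mv a) : a x = -x := by
  obtain ⟨y, rfl⟩ := hx
  have h : a (a y) = y := by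
    rw [← Module.End.mul_apply, ← pow_two, har, Module.End.one_apply]
  rw [LinearMap.sub_apply, Module.End.one_apply, map_sub, h, neg_sub]

theorem exists_involution_sub [Fintype F] (hG : Good B a) (h2 : (2 : F) ≠ 0) (har : a ^ 2 = 1)
    (hd : finrank F V = 2 * d) {k : ℕ} (hk : k ≤ d) :
    (∃ W : Submodule F V, Inv a W ∧ TI B W ∧ finrank F W = k) ∧
      ∃ W : Submodule F V, Inv a W ∧ Alt.NDon B W ∧ finrank F W = 2 * k := by
  haveI : Fact (Nat.Prime 2) := ⟨Nat.prime_two⟩
  obtain ⟨hc, horth, hNE, hNR⟩ := fixed_decomp hG (r := 2) (by exact_mod_cast h2) har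
  obtain ⟨⟨e, he⟩, hEti, hEnd⟩ := exists_sub hG hNE
  obtain ⟨⟨f, hf⟩, hRti, hRnd⟩ := exists_sub hG hNR
  have hef : finrank F (LinearMap.ker (a - 1)) + finrank F (LinearMap.range (a - 1)) = finrank F V := by
    rw [add_comm]; exact (a - 1).finrank_range_add_finrank_ker
  have hR : ∀ W : Submodule F V, W ≤ mv a → Inv a W := fun W hW x hx => by
    rw [mv_involution har (hW hx)]; exact W.neg_mem hx
  set k₁ := min k e
  have hk1 : 2 * k₁ ≤ finrank F (LinearMap.ker (a - 1)) := by omega
  have hk2 : 2 * (k - k₁) ≤ finrank F (LinearMap.range (a - 1)) := by omega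
  have hle : ∀ W₁ W₂ : Submodule F V, W₁ ≤ mv a → W₂ ≤ fx a → W₁ ≤ B.orthogonal W₂ :=
    fun W₁ W₂ h₁ h₂ x hx => (mem_orth hG).2 fun y hy =>
      (mem_orth hG).1 (horth.symm ▸ h₁ hx) y (h₂ hy)
  constructor
  · obtain ⟨W₁, l₁, t₁, d₁⟩ := hRti _ hk2
    obtain ⟨W₂, l₂, t₂, d₂⟩ := hEti _ hk1
    refine ⟨W₁ ⊔ W₂, (hR _ l₁).sup (inv_of_le_fx l₂), ti_sup hG t₁ t₂ (hle _ _ l₁ l₂), ?_⟩
    have h1 := Submodule.finrank_sup_add_finrank_inf_eq W₁ W₂
    rw [(hc.disjoint.symm.mono l₁ l₂).eq_bot, finrank_bot, d₁, d₂] at h1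
    omega
  · obtain ⟨W₁, l₁, n₁, d₁⟩ := hRnd _ hk2
    obtain ⟨W₂, l₂, n₂, d₂⟩ := hEnd _ hk1
    obtain ⟨h1, h3⟩ := ndon_sup hG n₁ n₂ (hle _ _ l₁ l₂)
    exact ⟨W₁ ⊔ W₂, (hR _ l₁).sup (inv_of_le_fx l₂), h1, by rw [h3, d₁, d₂]; omega⟩

theorem exists_neg_one_nd (hG : Good B a) (h2 : (2 : F) ≠ 0) (hsq : ∀ v, a (a v) = -v)
    (hd : finrank F V = 2 * d) {k : ℕ} (hk : k ≤ d) :
    ∃ W : Submodule F V, Inv a W ∧ Alt.NDon B W ∧ finrank F W = 2 * k := by
  refine exists_nd hG (c := 2) (fun U hU hN h0 => ?_) k (by omega)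
  obtain ⟨u, hu, hu0⟩ := U.exists_mem_ne_zero_of_ne_bot h0
  by_cases hex : ∃ u ∈ U, B (a u) u ≠ 0
  · obtain ⟨u, hu, hne⟩ := hex
    obtain ⟨hn, hdim⟩ := ndon_span_range (B := B) ![u, a u] fun c hc => by
      have h1 := hc 0
      have h3 := hc 1
      simp only [Fin.sum_univ_two, Matrix.cons_val_zero, Matrix.cons_val_one, hG.alt u, hG.alt (a u),
        mul_zero, zero_add, add_zero] at h1 h3
      rw [hG.skew (a u) u, mul_neg, neg_eq_zero, mul_eq_zero] at h3
      funext j
      fin_cases j
      · exact h3.resolve_right hne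
      · exact (mul_eq_zero.1 h1).resolve_right hne
    refine ⟨_, Submodule.span_le.2 ?_, inv_span ?_, hn, hdim⟩
    · rintro _ ⟨j, rfl⟩
      fin_cases j
      · exact hu
      · exact hU u hu
    · rintro _ ⟨j, rfl⟩
      fin_cases j
      · exact Submodule.subset_span ⟨1, rfl⟩
      · show a (a u) ∈ _
        rw [hsq]
        exact neg_mem (Submodule.subset_span ⟨0, rfl⟩)
  · exfalso
    push Not at hex
    obtain ⟨v, hv, hne⟩ := hN (a u) (hU u hu) (fun h => hu0 (by
      have := hsq u
      rw [h, map_zero] at this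
      exact neg_eq_zero.1 this.symm))
    have h1 := hex (u + v) (U.add_mem hu hv)
    simp only [map_add, LinearMap.add_apply, hex u hu, hex v hv, zero_add, add_zero] at h1
    have h3 := hG.pres u (a v)
    rw [hsq, map_neg] at h3
    rw [hG.skew u (a v)] at h1
    refine hne ((mul_eq_zero.1 (?_ : (2 : F) * B (a u) v = 0)).resolve_left h2)
    linear_combination h1 - h3

theorem exists_neg_one_ti_split (hG : Good B a) (h2 : (2 : F) ≠ 0) (hsq : ∀ v, a (a v) = -v)
    {z : F} (hz : z * z = -1) (hd : finrank F V = 2 * d) {k : ℕ} (hk : k ≤ d) :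
    ∃ W : Submodule F V, Inv a W ∧ TI B W ∧ finrank F W = k := by
  have key : ∀ z : F, z * z = -1 → ∀ W : Submodule F V, W ≤ LinearMap.ker (a - z • 1) → Inv a W ∧ TI B W := by
    intro z hz W hW
    have hev : ∀ w ∈ W, a w = z • w := fun w hw => by
      have := hW hw
      rwa [LinearMap.mem_ker, LinearMap.sub_apply, LinearMap.smul_apply, Module.End.one_apply, sub_eq_zero] at this
    refine ⟨fun w hw => by rw [hev w hw]; exact W.smul_mem _ hw, fun u hu v hv => ?_⟩
    have h := hG.pres u v
    rw [hev u hu, hev v hv, map_smul, map_smul, LinearMap.smul_apply, smul_eq_mul, smul_eq_mul, ← mul_assoc,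
      hz] at h
    refine (mul_eq_zero.1 (?_ : (2 : F) * B u v = 0)).resolve_left h2
    linear_combination -h
  have h1 := (a - z • 1).finrank_range_add_finrank_ker
  have h3 : finrank F (LinearMap.range (a - z • 1)) ≤ finrank F (LinearMap.ker (a - (-z) • 1)) := by
    refine Submodule.finrank_mono ?_
    rintro _ ⟨v, rfl⟩
    simp only [LinearMap.mem_ker, LinearMap.sub_apply, LinearMap.smul_apply, Module.End.one_apply, map_sub,
      map_smul, hsq, neg_smul, smul_sub, smul_smul, hz]
    simp [smul_smul, hz]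
    abel
  obtain ⟨z', hz', hle⟩ : ∃ z' : F, z' * z' = -1 ∧ k ≤ finrank F (LinearMap.ker (a - z' • 1)) := by
    rcases le_total d (finrank F (LinearMap.ker (a - z • 1))) with h | h
    · exact ⟨z, hz, hk.trans h⟩
    · exact ⟨-z, by rw [neg_mul_neg, hz], by omega⟩
  obtain ⟨g, hg⟩ := exists_linearIndependent_of_le_finrank hle
  set W := (Submodule.span F (Set.range g)).map (LinearMap.ker (a - z' • 1)).subtype with hWdef
  exact ⟨W, (key z' hz' W (lift_le _)).1, (key z' hz' W (lift_le _)).2,
    by rw [hWdef, finrank_lift, finrank_span_eq_card hg, Fintype.card_fin]⟩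

theorem neg_one_even [Fintype F] (hsq : ∀ v, a (a v) = -v) (hq : Fintype.card F % 4 = 3) {W : Submodule F V}
    (hW : Inv a W) : Even (finrank F W) := by
  have h : (a.restrict hW) * (a.restrict hW) = (-1 : F) • 1 := by
    refine LinearMap.ext fun v => Subtype.ext ?_
    show a (a (v : V)) = (-1 : F) • (v : V)
    rw [hsq, neg_one_smul]
  have h1 := congrArg LinearMap.det h
  rw [map_mul, LinearMap.det_smul, map_one, mul_one] at h1
  by_contra hodd
  rw [Nat.not_even_iff_odd] at hodd
  rw [hodd.neg_one_pow] at h1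
  have : IsSquare (-1 : F) := ⟨_, h1.symm⟩
  rw [FiniteField.isSquare_neg_one_iff] at this
  exact this hq

theorem exists_neg_one_ti [Fintype F] (hG : Good B a) (hsq : ∀ v, a (a v) = -v) (hq : Fintype.card F % 4 = 3)
    (hd : finrank F V = 2 * d) {k : ℕ} (hk : 2 * k ≤ d) :
    ∃ W : Submodule F V, Inv a W ∧ TI B W ∧ finrank F W = 2 * k := by
  have hirr : ∀ f : F[X], f.Monic → Irreducible f → f ∣ X ^ 2 + 1 → f.natDegree = 2 := by
    intro f hf hirr hfd
    have hne : (X ^ 2 + 1 : F[X]) ≠ 0 := (monic_X_pow_add_C (1 : F) two_ne_zero |> fun h => by simpa using h.ne_zero)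
    have hle : f.natDegree ≤ 2 := by
      have h := natDegree_le_of_dvd hfd hne
      rwa [show (X ^ 2 + 1 : F[X]) = X ^ 2 + C 1 by simp, natDegree_X_pow_add_C] at h
    have hpos := hirr.natDegree_pos
    by_contra h1
    have h1' : f.natDegree = 1 := by omega
    have hroot := eval_eq_zero_of_dvd_of_eval_eq_zero hfd (x := -f.coeff 0) (by
      conv_lhs => arg 2; rw [hf.eq_X_add_C h1']
      simp)
    simp only [eval_add, eval_pow, eval_X, eval_one] at hroot
    have : IsSquare (-1 : F) := ⟨-f.coeff 0, by linear_combination -hroot⟩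
    rw [FiniteField.isSquare_neg_one_iff] at this
    exact this hq
  have h2 : (2 : F) ≠ 0 := by
    intro h
    have hc : ringChar F = 2 := by
      have := ringChar.dvd (R := F) (x := 2) (by exact_mod_cast h)
      exact (Nat.dvd_prime Nat.prime_two).1 this |>.resolve_left CharP.ringChar_ne_one
    have := FiniteField.even_card_of_char_two (F := F) hc
    omega
  have hsf : Squarefree (X ^ 2 + 1 : F[X]) := by
    have h := Elusive.squarefree_pow_sub (r := 2) (F := F) (by exact_mod_cast h2) (neg_ne_zero.2 one_ne_zero)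
    simpa using h
  refine exists_ti hG hsf ?_ hirr k (by omega) (Or.inr ?_)
  · refine LinearMap.ext fun v => ?_
    simp [pow_two, Module.End.mul_apply, hsq]
  · rw [show (X ^ 2 + 1 : F[X]) = X ^ 2 + C 1 by simp, natDegree_X_pow_add_C]
    omega

/-- Characteristic two. -/
theorem exists_char_two_nd (hG : Good B a) (h2 : (2 : F) = 0) (har : ∀ v, a (a v) = v) :
    ∀ d (U : Submodule F V), Inv a U → Alt.NDon B U → finrank F U = 2 * d → ∀ k, k ≤ d → (Odd d ∨ Even k) →
      ∃ W : Submodule F V, W ≤ U ∧ Inv a W ∧ Alt.NDon B W ∧ finrank F W = 2 * k := by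
  intro d
  induction d using Nat.strong_induction_on with
  | _ d ih =>
    intro U hU hN hdim k hk hpar
    rcases Nat.eq_zero_or_pos k with rfl | hk0
    · exact ⟨⊥, bot_le, inv_bot, fun w hw h0 => absurd ((Submodule.mem_bot F).1 hw) h0, by simp⟩
    have hne : U ≠ ⊥ := fun h => by rw [h, finrank_bot] at hdim; omega
    have hneg : ∀ x y, B y x = B x y := fun x y => by
      rw [hG.skew x y]; linear_combination (-B x y) * h2
    have hsym : ∀ x y, B (a x) y = B x (a y) := fun x y => by
      conv_lhs => rw [← har y]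
      exact hG.pres _ _
    set N := fun x => a x - x with hNdef
    have hNN : ∀ x y, B (N x) (N y) = 0 := fun x y => by
      simp only [hNdef, map_sub, LinearMap.sub_apply, hG.pres, hsym]
      linear_combination (B x y - B x (a y)) * h2
    have haN : ∀ x, a (N x) = N x := fun x => by
      simp only [hNdef, map_sub, har]
      have hs : ∀ z : V, -z = z := fun z => by
        rw [← neg_one_smul F z, show (-1 : F) = 1 by linear_combination -h2, one_smul]
      rw [sub_eq_add_neg, sub_eq_add_neg, hs, hs, add_comm]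
    obtain ⟨W₀, j, hle, hW₀, hN₀, hd₀, hj⟩ : ∃ (W₀ : Submodule F V) (j : ℕ), W₀ ≤ U ∧ Inv a W₀ ∧
        Alt.NDon B W₀ ∧ finrank F W₀ = 2 * j ∧ (j = 1 ∨ (j = 2 ∧ 2 ≤ d)) := by
      by_cases hq : ∃ u ∈ U, B (N u) u ≠ 0
      · obtain ⟨u, hu, hne⟩ := hq
        obtain ⟨hn, hdm⟩ := ndon_span_range (B := B) ![u, N u] fun c hc => by
          have h1 := hc 0
          have h3 := hc 1
          simp only [Fin.sum_univ_two, Matrix.cons_val_zero, Matrix.cons_val_one, hG.alt u, hG.alt (N u),
            mul_zero, zero_add, add_zero, hneg (N u) u, mul_eq_zero] at h1 h3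
          funext l
          fin_cases l
          · exact h3.resolve_right hne
          · exact h1.resolve_right hne
        refine ⟨_, 1, Submodule.span_le.2 ?_, inv_span ?_, hn, hdm, Or.inl rfl⟩
        · rintro _ ⟨l, rfl⟩
          fin_cases l
          · exact hu
          · exact U.sub_mem (hU u hu) hu
        · rintro _ ⟨l, rfl⟩
          fin_cases l
          · show a u ∈ _
            rw [show a u = N u + u by simp [hNdef]]
            exact add_mem (Submodule.subset_span ⟨1, rfl⟩) (Submodule.subset_span ⟨0, rfl⟩)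
          · show a (N u) ∈ _
            rw [haN]
            exact Submodule.subset_span ⟨1, rfl⟩
      · push Not at hq
        by_cases hz : ∀ u ∈ U, N u = 0
        · obtain ⟨W, l, n, dm⟩ := (exists_sub hG hN).2.2 1 (by omega)
          refine ⟨W, 1, l, fun w hw => ?_, n, dm, Or.inl rfl⟩
          rw [sub_eq_zero.1 (hz w (l hw))]
          exact hw
        · push Not at hz
          obtain ⟨u, hu, hu0⟩ := hz
          obtain ⟨v, hv, huv⟩ := Alt.exists_partner hG.alt hN (U.sub_mem (hU u hu) hu) hu0
          have hvu : B (N v) u = 1 := by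
            have h1 := hq (u + v) (U.add_mem hu hv)
            simp only [hNdef, map_add, add_sub_add_comm, LinearMap.add_apply] at h1 ⊢
            have h3 := hq u hu
            have h4 := hq v hv
            simp only [hNdef] at h3 h4 huv
            linear_combination h1 - h3 - h4 - huv - h2
          obtain ⟨hn, hdm⟩ := ndon_span_range (B := B) ![u, N u, v, N v] fun c hc => by
            have h0 := hc 0
            have h1 := hc 1
            have h3 := hc 2
            have h5 := hc 3
            have e1 : B u (N v) = 1 := by rw [hneg (N v) u, hvu]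
            have e2 : B v (N u) = 1 := by rw [hneg (N u) v]; exact huv
            simp [Fin.sum_univ_four, hG.alt u, hG.alt v, hNN, hq u hu, hq v hv,
              hneg (N u) u, hneg (N v) v, e1, e2, hvu, show B (N u) v = 1 from huv] at h0 h1 h3 h5
            rw [h1] at h0
            rw [h5] at h3
            funext l
            fin_cases l
            · exact h5
            · simpa using h3
            · exact h1
            · simpa using h0
          have h4d : finrank F (Submodule.span F (Set.range ![u, N u, v, N v])) ≤ finrank F U := by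
            refine Submodule.finrank_mono (Submodule.span_le.2 ?_)
            rintro _ ⟨l, rfl⟩
            fin_cases l
            · exact hu
            · exact U.sub_mem (hU u hu) hu
            · exact hv
            · exact U.sub_mem (hU v hv) hv
          refine ⟨_, 2, Submodule.span_le.2 ?_, inv_span ?_, hn, hdm, Or.inr ⟨rfl, by rw [hdm] at h4d; omega⟩⟩
          · rintro _ ⟨l, rfl⟩
            fin_cases l
            · exact hu
            · exact U.sub_mem (hU u hu) hu
            · exact hv
            · exact U.sub_mem (hU v hv) hv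
          · rintro _ ⟨l, rfl⟩
            fin_cases l
            · show a u ∈ _
              rw [show a u = N u + u by simp [hNdef]]
              exact add_mem (Submodule.subset_span ⟨1, rfl⟩) (Submodule.subset_span ⟨0, rfl⟩)
            · show a (N u) ∈ _
              rw [haN]
              exact Submodule.subset_span ⟨1, rfl⟩
            · show a v ∈ _
              rw [show a v = N v + v by simp [hNdef]]
              exact add_mem (Submodule.subset_span ⟨3, rfl⟩) (Submodule.subset_span ⟨2, rfl⟩)
            · show a (N v) ∈ _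
              rw [haN]
              exact Submodule.subset_span ⟨3, rfl⟩
    set U' := U ⊓ B.orthogonal W₀ with hU'
    have hU'inv : Inv a U' := hU.inf (inv_orth hG hW₀)
    have hU'sup : W₀ ⊔ U' = U := by
      rw [hU', inf_comm U, ← sup_inf_assoc_of_le _ hle, (isCompl_orth hG hN₀).sup_eq_top, top_inf_eq]
    have hU'd : finrank F U' = 2 * (d - j) := by
      have h1 := Submodule.finrank_sup_add_finrank_inf_eq W₀ U'
      rw [hU'sup, ((isCompl_orth hG hN₀).disjoint.mono_right inf_le_right).eq_bot, finrank_bot, hd₀, hdim] at h1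
      omega
    have hU'N : Alt.NDon B U' := by
      intro x hx h0
      obtain ⟨z, hz, hne⟩ := hN x hx.1 h0
      rw [← hU'sup] at hz
      obtain ⟨s, hs, t, ht, rfl⟩ := Submodule.mem_sup.1 hz
      exact ⟨t, ht, by rwa [map_add, (mem_orth hG).1 hx.2 s hs, zero_add] at hne⟩
    by_cases hcase : j ≤ k ∧ (Odd (d - j) ∨ Even (k - j))
    · obtain ⟨W, l, hi, hn, dm⟩ := ih _ (by omega) U' hU'inv hU'N hU'd (k - j) (by omega) hcase.2
      obtain ⟨h1, h3⟩ := ndon_sup hG hn hN₀ (l.trans inf_le_right)
      exact ⟨W ⊔ W₀, sup_le (l.trans inf_le_left) hle, hi.sup hW₀, h1, by rw [h3, dm, hd₀]; omega⟩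
    · have hk' : k ≤ d - j ∧ (Odd (d - j) ∨ Even k) := by
        simp only [Nat.odd_iff, Nat.even_iff] at hpar hcase ⊢
        omega
      obtain ⟨W, l, hi, hn, dm⟩ := ih _ (by omega) U' hU'inv hU'N hU'd k hk'.1 hk'.2
      exact ⟨W, l.trans inf_le_left, hi, hn, dm⟩

end Cfsg.Agent.Classical.SympElem
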