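import Cfsg.Agent.Classical.SympElem.PrimeOrder
import Cfsg.Agent.MatModule.SympPoly

/-!
# Symplectic elements of prime order with few fixed vectors or few repeated blocks
-/

set_option autoImplicit false

namespace Cfsg.Agent.Classical.SympElem

open Module Polynomial Matrix Cfsg.Agent.SympConj Cfsg.Agent.MatModule Cfsg.Agent.Classical.Elusive

universe u v

variable {F : Type u} [Field F]

/-- Some symplectic matrix of dimension `2d` with `r`-th power one has characteristic polynomial `f`. -/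
def HasElem (r d : ℕ) (f : F[X]) : Prop :=
  ∃ x : Matrix.symplecticGroup (Fin d) F, x ^ r = 1 ∧ x.1.charpoly = f

theorem toLin'_pow_one {d r : ℕ} (x : Matrix.symplecticGroup (Fin d) F) (h : x ^ r = 1) :
    (Matrix.toLin' x.1) ^ r = 1 := by
  rw [← Matrix.toLin'_pow, ← SubmonoidClass.coe_pow, h]
  exact Matrix.toLin'_one

theorem of_toLin' {d r : ℕ} (x : Matrix.symplecticGroup (Fin d) F) (h : (Matrix.toLin' x.1) ^ r = 1) :
    x ^ r = 1 := by
  refine Subtype.ext (Matrix.toLin'.injective ?_)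
  rw [SubmonoidClass.coe_pow, Matrix.toLin'_pow, h, OneMemClass.coe_one, Matrix.toLin'_one]
  rfl

theorem hasElem_one (r d : ℕ) : HasElem r d ((X - C (1 : F)) ^ (2 * d)) :=
  ⟨1, one_pow r, by
    rw [OneMemClass.coe_one, Matrix.charpoly_one, Fintype.card_sum, Fintype.card_fin, ← two_mul, map_one]⟩

theorem hasElem_add {r d₁ d₂ : ℕ} {f₁ f₂ : F[X]} (h₁ : HasElem r d₁ f₁) (h₂ : HasElem r d₂ f₂) :
    HasElem r (d₁ + d₂) (f₁ * f₂) := by
  obtain ⟨x, hx, hxf⟩ := h₁
  obtain ⟨y, hy, hyf⟩ := h₂
  set B := (sympB d₁ F).comp (LinearMap.fst F _ _) (LinearMap.fst F _ (Fin d₂ ⊕ Fin d₂ → F)) +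
    (sympB d₂ F).comp (LinearMap.snd F _ _) (LinearMap.snd F (Fin d₁ ⊕ Fin d₁ → F) _) with hB
  set a := (Matrix.toLin' x.1).prodMap (Matrix.toLin' y.1) with ha
  have hG : Good B a := by
    refine ⟨fun u => ?_, fun u hu => Prod.ext ((good_matrix x).sep _ fun v => ?_)
      ((good_matrix y).sep _ fun v => ?_), fun u v => ?_⟩
    · show sympB d₁ F u.1 u.1 + sympB d₂ F u.2 u.2 = 0
      rw [(good_matrix x).alt u.1, (good_matrix y).alt u.2, add_zero]
    · simpa [hB] using hu (v, 0)
    · simpa [hB] using hu (0, v)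
    · show sympB d₁ F (Matrix.toLin' x.1 u.1) (Matrix.toLin' x.1 v.1) +
        sympB d₂ F (Matrix.toLin' y.1 u.2) (Matrix.toLin' y.1 v.2) = _
      rw [(good_matrix x).pres, (good_matrix y).pres]
      rfl
  obtain ⟨z, Ψ, hΨ, -⟩ := exists_realize hG (d := d₁ + d₂) (by
    rw [Module.finrank_prod, finrank_symp, finrank_symp]; ring)
  have hconj : Matrix.toLin' z.1 = Ψ.conj a := LinearMap.ext fun v => by
    rw [LinearEquiv.conj_apply_apply, hΨ, LinearEquiv.apply_symm_apply]
  refine ⟨z, of_toLin' z ?_, ?_⟩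
  · have hpow : ∀ k, (Matrix.toLin' z.1) ^ k = Ψ.conj (a ^ k) := fun k => by
      induction k with
      | zero => rw [pow_zero, pow_zero, Module.End.one_eq_id, Module.End.one_eq_id, LinearEquiv.conj_id]
      | succ k ih =>
        rw [pow_succ, pow_succ, ih, hconj, Module.End.mul_eq_comp, Module.End.mul_eq_comp, LinearEquiv.conj_comp]
    have har : a ^ r = 1 := by
      have h : ∀ (k : ℕ) u, (a ^ k) u = (((Matrix.toLin' x.1) ^ k) u.1, ((Matrix.toLin' y.1) ^ k) u.2) := by
        intro k
        induction k with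
        | zero => exact fun u => rfl
        | succ k ih => intro u; rw [pow_succ', Module.End.mul_apply, ih, pow_succ', pow_succ']; rfl
      exact LinearMap.ext fun u => by rw [h, toLin'_pow_one x hx, toLin'_pow_one y hy]; rfl
    rw [hpow, har, Module.End.one_eq_id, LinearEquiv.conj_id, ← Module.End.one_eq_id]
  · rw [← Matrix.charpoly_toLin', hconj, LinearEquiv.charpoly_conj, ha, LinearMap.charpoly_prodMap,
      Matrix.charpoly_toLin', Matrix.charpoly_toLin', hxf, hyf]

theorem dvd_cyclotomic [Fintype F] {r : ℕ} [Fact r.Prime] {f : F[X]} (h : f ∣ cyclotomic r F) :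
    f ∣ X ^ r - C 1 := by
  refine h.trans ?_
  rw [map_one, ← cyclotomic_prime_mul_X_sub_one F r]
  exact dvd_mul_right _ _

theorem frobenius_inverse [Fintype F] {r : ℕ} [Fact r.Prime] {h : ℕ}
    (hi : orderOf (Fintype.card F : ZMod r) = h + h) (hh : 0 < h) : r ∣ Fintype.card F ^ h + 1 := by
  have h2 : r ∣ Fintype.card F ^ (h + h) - 1 := by rw [LargeSylow.dvd_sub_iff Fintype.card_pos, hi]
  rw [show Fintype.card F ^ (h + h) - 1 = (Fintype.card F ^ h + 1) * (Fintype.card F ^ h - 1) by
    rw [← Nat.sq_sub_sq, one_pow, ← pow_mul]; ring_nf] at h2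
  refine ((Fact.out : r.Prime).dvd_mul.1 h2).resolve_right fun h3 => ?_
  rw [LargeSylow.dvd_sub_iff Fintype.card_pos, hi] at h3
  have := Nat.le_of_dvd (by omega) h3
  omega

theorem hasElem_factor [Fintype F] {r : ℕ} [Fact r.Prime] (hr : (r : F) ≠ 0) {f : F[X]} (hf : f.Monic)
    (hirr : Irreducible f) (hfd : f ∣ cyclotomic r F) {h : ℕ}
    (hi : orderOf (Fintype.card F : ZMod r) = h + h) : HasElem r h f := by
  obtain ⟨-, hAll, -, hi0, -⟩ := poly_facts (F := F) (r := r) hr
  have hdeg : f.natDegree = 2 * h := by rw [hAll f hf hirr hfd, hi, two_mul]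
  have hh : 0 < h := by omega
  haveI := Fact.mk hirr
  set L := AdjoinRoot f
  set ρ : L := AdjoinRoot.root f with hρ
  have hroot : ρ ^ r = 1 := by
    have := AdjoinRoot.mk_eq_zero.2 (dvd_cyclotomic hfd)
    rwa [map_sub, map_pow, AdjoinRoot.mk_X, AdjoinRoot.mk_C, map_one, sub_eq_zero] at this
  set Q := Fintype.card F ^ h
  have hinv : ρ ^ Q * ρ = 1 := by
    obtain ⟨s, hs⟩ := frobenius_inverse hi hh
    rw [← pow_succ, hs, pow_mul, hroot, one_pow]
  letI : Invertible (ρ ^ Q) := ⟨ρ, by rw [mul_comm]; exact hinv, hinv⟩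
  have hQ : eval₂ (AdjoinRoot.of f) (ρ ^ Q) f = 0 := by
    have h1 : aeval (ρ ^ Q) f = (aeval ρ f) ^ Q := by
      rw [← map_pow, ← comp_X_pow_card, aeval_comp, map_pow, aeval_X]
    rw [AdjoinRoot.aeval_eq, AdjoinRoot.mk_self, zero_pow (pow_pos Fintype.card_pos _).ne'] at h1
    exact h1
  have hrev : f ∣ f.reverse := by
    have := (eval₂_reverse_eq_zero_iff (AdjoinRoot.of f) (ρ ^ Q) f).2 hQ
    rw [← AdjoinRoot.mk_eq_zero, ← AdjoinRoot.aeval_eq]
    exact this
  have hf0 : f.coeff 0 ≠ 0 := by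
    intro h0
    have hX : X ∣ f := X_dvd_iff.2 h0
    have := natDegree_eq_of_degree_eq (degree_eq_degree_of_associated (irreducible_X.associated_of_dvd hirr hX))
    rw [natDegree_X] at this
    omega
  obtain ⟨g, hg⟩ := hrev
  have hrevdeg : f.reverse.natDegree = f.natDegree := by
    rw [reverse_natDegree, natTrailingDegree_eq_zero_of_constantCoeff_ne_zero]
    · simp
    · rwa [constantCoeff_apply]
  have hg0 : g ≠ 0 := fun h0 => by
    have : f.reverse = 0 := by rw [hg, h0, mul_zero]
    exact hf.ne_zero (reverse_eq_zero.1 this)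
  have hgd : g.natDegree = 0 := by
    have := congrArg natDegree hg
    rw [hrevdeg, natDegree_mul hf.ne_zero hg0] at this
    omega
  set c := g.coeff 0
  have hcoef : ∀ l, l ≤ 2 * h → f.coeff (2 * h - l) = f.coeff l * c := by
    intro l hl
    have := congrArg (fun t => t.coeff l) hg
    simp only [coeff_reverse, hdeg, revAt_le hl] at this
    rw [this, eq_C_of_natDegree_eq_zero hgd, coeff_mul_C]
  have hlead : f.coeff (2 * h) = 1 := by rw [← hdeg]; exact hf
  have hc0 : 1 = f.coeff 0 * c := by have := hcoef 0 (Nat.zero_le _); rwa [Nat.sub_zero, hlead] at this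
  have hc1 : f.coeff 0 = c := by
    have := hcoef (2 * h) le_rfl
    rwa [Nat.sub_self, hlead, one_mul] at this
  have hne1 : f.eval 1 ≠ 0 := fun h1 => by
    have := degree_eq_one_of_irreducible_of_root hirr h1
    rw [degree_eq_natDegree hf.ne_zero, hdeg] at this
    have : 2 * h = 1 := by exact_mod_cast this
    omega
  have hc : c = 1 := by
    have hsum : f.eval 1 = f.eval 1 * c := by
      simp only [eval_eq_sum_range, one_pow, mul_one, hdeg, Finset.sum_mul]
      rw [← Finset.sum_range_reflect (fun j => f.coeff j) (2 * h + 1)]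
      refine Finset.sum_congr rfl fun j hj => ?_
      have hj' := Finset.mem_range.1 hj
      show f.coeff (2 * h + 1 - 1 - j) = f.coeff (j) * c
      rw [show 2 * h + 1 - 1 - j = 2 * h - j by omega, hcoef j (by omega)]
    exact mul_left_cancel₀ hne1 (by rw [mul_one]; exact hsum.symm)
  obtain ⟨A, hA⟩ := exists_charpoly hh f hf hdeg (fun l hl => by rw [hcoef l hl, hc, mul_one])
    (by rw [hc1, hc])
  refine ⟨A, of_toLin' A ?_, hA⟩
  obtain ⟨w, hw⟩ := dvd_cyclotomic hfd
  have h1 := congrArg (aeval (Matrix.toLin' A.1)) hw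
  have hCH : aeval (Matrix.toLin' A.1) f = 0 := by
    rw [← hA, ← Matrix.charpoly_toLin']
    exact LinearMap.aeval_self_charpoly _
  rwa [map_mul, hCH, zero_mul, map_sub, map_pow, aeval_X, map_one, map_one, sub_eq_zero] at h1

theorem hasElem_prod [Fintype F] {r : ℕ} [Fact r.Prime] (hr : (r : F) ≠ 0) {h : ℕ}
    (hi : orderOf (Fintype.card F : ZMod r) = h + h) {N : ℕ} (fs : Fin N → F[X])
    (hfs : ∀ j, (fs j).Monic ∧ Irreducible (fs j) ∧ fs j ∣ cyclotomic r F) :
    HasElem r (N * h) (∏ j, fs j) := by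
  induction N with
  | zero => simpa using hasElem_one (F := F) r 0
  | succ N ih =>
    rw [Fin.prod_univ_succ, Nat.succ_mul, add_comm]
    exact hasElem_add (hasElem_factor hr (hfs 0).1 (hfs 0).2.1 (hfs 0).2.2 hi) (ih _ fun j => hfs j.succ)

theorem exists_factors [Fintype F] {r : ℕ} [Fact r.Prime] (hr : (r : F) ≠ 0) :
    ∃ (t : ℕ) (fs : Fin t → F[X]), t * orderOf (Fintype.card F : ZMod r) = r - 1 ∧ Function.Injective fs ∧
      ∀ j, (fs j).Monic ∧ Irreducible (fs j) ∧ fs j ∣ cyclotomic r F := by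
  classical
  obtain ⟨hsf, hAll, hdeg, -, -⟩ := poly_facts (F := F) (r := r) hr
  set g := cyclotomic r F
  have hgm : g.Monic := cyclotomic.monic r F
  haveI := finite_adjoinRoot g hgm
  set φ : Module.End F (AdjoinRoot g) := LinearMap.mulLeft F (AdjoinRoot.root g)
  have hφ : φ.charpoly = g := charpoly_mulLeft_root g hgm
  have hφg : aeval φ g = 0 := by
    conv_lhs => arg 2; rw [← hφ]
    exact LinearMap.aeval_self_charpoly φ
  obtain ⟨ι, hι, s, hs, hirr, Φ, hΦ⟩ := exists_rootMul φ hsf hφg
  have hdvd : ∀ j, s j ∣ g := fun j => dvd_of_aeval hΦ hφg j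
  have hprod : g = ∏ j, s j := by rw [← charpoly_eq hΦ hs, hφ]
  set e := (Fintype.equivFin ι).symm
  refine ⟨Fintype.card ι, fun j => s (e j), ?_, fun a b hab => e.injective ?_, fun j => ⟨hs _, hirr _, hdvd _⟩⟩
  · have := congrArg natDegree hprod
    rw [hdeg, natDegree_prod _ _ fun j _ => (hs j).ne_zero, Finset.sum_congr rfl fun j _ =>
      hAll _ (hs j) (hirr j) (hdvd j), Finset.sum_const, Finset.card_univ, smul_eq_mul] at this
    exact this.symm
  · by_contra hne
    refine (hirr (e a)).not_isUnit (hsf _ ?_)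
    rw [hprod, ← Finset.mul_prod_erase _ _ (Finset.mem_univ (e a)),
      ← Finset.mul_prod_erase _ _ (Finset.mem_erase.2 ⟨Ne.symm hne, Finset.mem_univ (e b)⟩), ← mul_assoc,
      show s (e b) = s (e a) from hab.symm]
    exact dvd_mul_right _ _

theorem finrank_fx_le {V : Type v} [AddCommGroup V] [Module F V] [FiniteDimensional F V] {a : Module.End F V}
    {k : ℕ} {g : F[X]} (hchar : a.charpoly = (X - C 1) ^ k * g) (hg : g.eval 1 ≠ 0) :
    finrank F (fx a) ≤ k := by
  have h : fx a = Module.End.eigenspace a 1 := by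
    ext x
    rw [Module.End.mem_eigenspace_iff, one_smul]
    exact ⟨fx_apply, mem_fx⟩
  rw [h]
  refine (LinearMap.finrank_eigenspace_le _ 1).trans ?_
  rw [hchar, rootMultiplicity_mul (mul_ne_zero (pow_ne_zero _ (X_sub_C_ne_zero 1))
    (fun h0 => hg (by rw [h0, eval_zero]))), rootMultiplicity_X_sub_C_pow,
    rootMultiplicity_eq_zero (by rwa [IsRoot.def]), add_zero]

theorem eval_one_cyclo [Fintype F] {r : ℕ} [Fact r.Prime] (hr : (r : F) ≠ 0) {f : F[X]}
    (h : f ∣ cyclotomic r F) : f.eval 1 ≠ 0 := fun h0 => hr (by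
  have := eval_eq_zero_of_dvd_of_eval_eq_zero h h0
  rwa [eval_one_cyclotomic_prime] at this)

/-- Distinct self-inverse blocks carry no totally isotropic invariant subspace. -/
theorem no_ti_mv {V : Type v} [AddCommGroup V] [Module F V] [FiniteDimensional F V] [Fintype F]
    {B : LinearMap.BilinForm F V} {a : Module.End F V} {r : ℕ} [Fact r.Prime]
    (hG : Good B a) (hr : (r : F) ≠ 0) (har : a ^ r = 1) {h : ℕ}
    (hi : orderOf (Fintype.card F : ZMod r) = h + h) {k : ℕ} {g : F[X]}
    (hchar : a.charpoly = (X - C 1) ^ k * g) (hg : Squarefree g) {W : Submodule F V} (hW : Inv a W)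
    (hti : TI B W) : W ⊓ mv a = ⊥ := by
  classical
  obtain ⟨hsf, hAll, -, hi0, -⟩ := poly_facts (F := F) (r := r) hr
  have hh : 0 < h := by omega
  by_contra hne
  set W' := W ⊓ mv a
  have hW'm : W' ≤ mv a := inf_le_right
  have hWinv : Inv (a.restrict (inv_mv (a := a))) (W'.comap (mv a).subtype) := fun w hw => (hW.inf inv_mv) _ hw
  have hpos : 0 < finrank F (W'.comap (mv a).subtype) := by
    rw [← finrank_lift, Submodule.map_comap_subtype, inf_comm, inf_of_le_left hW'm]
    exact Nat.pos_of_ne_zero fun h0 => hne (Submodule.finrank_eq_zero.1 h0)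
  obtain ⟨-, h1, -⟩ := blocks hsf (aeval_restrict (aeval_mv har) hWinv) hAll
  obtain ⟨f, hf, hirr, hfd, hfk⟩ := h1 hpos
  obtain ⟨w, hw, hw0⟩ := Submodule.exists_mem_ne_zero_of_ne_bot (fun h0 : LinearMap.ker _ = ⊥ => by
    rw [h0, finrank_bot] at hfk; omega)
  set u : V := ((w : mv a) : V) with hu
  have hbk : ∀ {U : Type v} [AddCommGroup U] [Module F U] {b : Module.End F U} {P : Submodule F U}
      (hP : ∀ x ∈ P, b x ∈ P) (x : P), ((aeval (b.restrict hP) f) x : U) = aeval b f x := by
    intro U _ _ b P hP x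
    have hk : ∀ (j : ℕ) (z : P), (((b.restrict hP) ^ j) z : U) = (b ^ j) z := by
      intro j
      induction j with
      | zero => intro z; rfl
      | succ j ih =>
          intro z
          rw [pow_succ', pow_succ', Module.End.mul_apply, Module.End.mul_apply, ← ih]
          rfl
    simp only [aeval_eq_sum_range, LinearMap.sum_apply, LinearMap.smul_apply, Submodule.coe_sum,
      Submodule.coe_smul, hk]
  have hu0 : u ≠ 0 := fun h0 => hw0 (Subtype.ext (Subtype.ext h0))
  have hfu : aeval a f u = 0 := by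
    have h2 := LinearMap.mem_ker.1 hw
    rw [hu, ← hbk (inv_mv (a := a)), ← hbk hWinv, h2]
    rfl
  have huW : u ∈ W := w.2.1
  -- the kernel of the factor is a single block
  have hX : aeval a (X ^ r - C (1 : F)) = 0 := aeval_pow_sub (by rw [har, one_smul])
  obtain ⟨ι, hι, s, hs, hsirr, Φ, hΦ⟩ := exists_rootMul a (squarefree_pow_sub hr one_ne_zero) hX
  have hprod : (X - C 1) ^ k * g = ∏ j, s j := by rw [← hchar, charpoly_eq hΦ hs]
  haveI := Fact.mk hirr
  have hker : ∀ v, aeval a f v = 0 → ∀ j, s j ≠ f → Φ v j = 0 := by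
    intro v hv j hj
    have := aeval_apply hΦ f v j
    rw [hv, map_zero, Pi.zero_apply] at this
    haveI hF := Fact.mk (hsirr j)
    refine (mul_eq_zero.1 this.symm).resolve_left fun h0 => hj ?_
    exact eq_of_monic_of_associated (hs j) hf ((hsirr j).associated_of_dvd hirr (AdjoinRoot.mk_eq_zero.1 h0))
  have hone : ∀ j j', s j = f → s j' = f → j = j' := by
    intro j j' hj hj'
    by_contra hjj
    have h2 : f * f ∣ (X - C 1) ^ k * g := by
      rw [hprod, ← Finset.mul_prod_erase _ _ (Finset.mem_univ j),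
        ← Finset.mul_prod_erase _ _ (Finset.mem_erase.2 ⟨Ne.symm hjj, Finset.mem_univ j'⟩), ← mul_assoc, hj, hj']
      exact dvd_mul_right _ _
    have hcop : IsCoprime f (X - C 1) := hirr.coprime_iff_not_dvd.2 fun hd => by
      have := natDegree_le_of_dvd hd (X_sub_C_ne_zero 1)
      rw [natDegree_X_sub_C, hAll f hf hirr hfd] at this
      omega
    exact hirr.not_isUnit (hg _ (((hcop.mul_left hcop).pow_right).dvd_of_dvd_mul_left h2))
  set S := Finset.univ.filter fun j => s j = f
  have hle : LinearMap.ker (aeval a f) ≤ piece Φ S := fun v hv j hj =>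
    hker v (LinearMap.mem_ker.1 hv) j fun h0 => hj (Finset.mem_filter.2 ⟨Finset.mem_univ _, h0⟩)
  have hdim : finrank F (LinearMap.ker (aeval a f)) ≤ f.natDegree := by
    refine (Submodule.finrank_mono hle).trans ?_
    rw [finrank_piece hs]
    rcases S.eq_empty_or_nonempty with h0 | ⟨j, hj⟩
    · rw [h0, Finset.sum_empty]; exact Nat.zero_le _
    · have : S = {j} := Finset.eq_singleton_iff_unique_mem.2 ⟨hj, fun j' hj' =>
        hone _ _ (Finset.mem_filter.1 hj').2 (Finset.mem_filter.1 hj).2⟩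
      rw [this, Finset.sum_singleton, (Finset.mem_filter.1 hj).2]
  obtain ⟨hinv, hfin, -⟩ := cyc_props hf hirr hu0 hfu
  have hcle : cyc a u f.natDegree ≤ W := Submodule.span_le.2 (by
    rintro _ ⟨j, rfl⟩
    have := aeval_mem hW (X ^ (j : ℕ)) huW
    rwa [map_pow, aeval_X] at this)
  have hceq : cyc a u f.natDegree = LinearMap.ker (aeval a f) := by
    refine Submodule.eq_of_le_of_finrank_le (Submodule.span_le.2 ?_) (by rw [hfin]; exact hdim)
    rintro _ ⟨j, rfl⟩
    refine LinearMap.mem_ker.2 ?_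
    rw [← Module.End.mul_apply, show (a ^ (j : ℕ)) = aeval a (X ^ (j : ℕ) : F[X]) by simp, ← map_mul,
      mul_comm, map_mul, Module.End.mul_apply, hfu, map_zero]
  have hj : a * a ^ Fintype.card F ^ h = 1 := by
    obtain ⟨c, hc⟩ := frobenius_inverse hi hh
    rw [← pow_succ', hc, pow_mul, har, one_pow]
  refine hu0 (hG.sep u fun v => ?_)
  have hvsum : v = ∑ j, Φ.symm (Pi.single j (Φ v j)) := by
    rw [← map_sum, Finset.univ_sum_single, LinearEquiv.symm_apply_apply]
  rw [hvsum, map_sum]
  refine Finset.sum_eq_zero fun j _ => ?_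
  have hwj : aeval a (s j) (Φ.symm (Pi.single j (Φ v j))) = 0 := by
    refine Φ.map_eq_zero_iff.1 (funext fun l => ?_)
    rw [aeval_apply hΦ, LinearEquiv.apply_symm_apply, Pi.zero_apply]
    rcases eq_or_ne l j with rfl | hl
    · rw [AdjoinRoot.mk_self, zero_mul]
    · rw [Pi.single_eq_of_ne hl, mul_zero]
  rcases eq_or_ne (s j) f with hjf | hjf
  · rw [hjf] at hwj
    exact hti u huW _ (hcle (hceq ▸ LinearMap.mem_ker.2 hwj))
  · exact kernels_orth hG hj (hirr.coprime_iff_not_dvd.2 fun hd => hjf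
      (eq_of_monic_of_associated hf (hs j) (hirr.associated_of_dvd (hsirr j) hd)).symm) hfu hwj

/-- A hyperbolic element. -/
theorem exists_hyperbolic {r d : ℕ} (M : Matrix.SpecialLinearGroup (Fin d) F) (hM : M ^ r = 1) :
    ∃ x : Matrix.symplecticGroup (Fin d) F, x ^ r = 1 ∧
      finrank F (fx (Matrix.toLin' x.1)) ≤
        2 * finrank F (Module.End.eigenspace (Matrix.toLin' M.1) 1) := by
  classical
  set A := M.1
  set A' := (M⁻¹ : Matrix.SpecialLinearGroup (Fin d) F).1ᵀ with hA'
  have hAA : Aᵀ * A' = 1 := by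
    rw [hA', ← Matrix.transpose_mul, ← Matrix.SpecialLinearGroup.coe_mul, inv_mul_cancel,
      Matrix.SpecialLinearGroup.coe_one, Matrix.transpose_one]
  have hA'A : A'ᵀ * A = 1 := by
    rw [hA', Matrix.transpose_transpose, ← Matrix.SpecialLinearGroup.coe_mul, inv_mul_cancel,
      Matrix.SpecialLinearGroup.coe_one]
  have hmem : Matrix.fromBlocks A 0 0 A' ∈ Matrix.symplecticGroup (Fin d) F := by
    rw [SymplecticGroup.mem_iff']
    simp [Matrix.J, Matrix.fromBlocks_transpose, Matrix.fromBlocks_multiply, hAA, hA'A]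
  have hpow : ∀ k : ℕ, (Matrix.fromBlocks A 0 0 A') ^ k = Matrix.fromBlocks (A ^ k) 0 0 (A' ^ k) := by
    intro k
    induction k with
    | zero => simp [Matrix.fromBlocks_one]
    | succ k ih => rw [pow_succ, ih, Matrix.fromBlocks_multiply]; simp [pow_succ]
  refine ⟨⟨_, hmem⟩, Subtype.ext ?_, ?_⟩
  · rw [SubmonoidClass.coe_pow]
    show (Matrix.fromBlocks A 0 0 A') ^ r = 1
    rw [hpow, hA', ← Matrix.transpose_pow, ← Matrix.SpecialLinearGroup.coe_pow,
      ← Matrix.SpecialLinearGroup.coe_pow, inv_pow, hM, inv_one, Matrix.SpecialLinearGroup.coe_one,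
      Matrix.transpose_one, Matrix.fromBlocks_one]
  · have hker : ∀ P : Matrix (Fin d) (Fin d) F,
        finrank F (LinearMap.ker (P.mulVecLin)) = finrank F (LinearMap.ker (Pᵀ.mulVecLin)) := by
      intro P
      have h1 := P.mulVecLin.finrank_range_add_finrank_ker
      have h2 := Pᵀ.mulVecLin.finrank_range_add_finrank_ker
      have h3 : Pᵀ.rank = P.rank := Matrix.rank_transpose P
      rw [Matrix.rank, Matrix.rank] at h3
      omega
    set E := Module.End.eigenspace (Matrix.toLin' A) 1
    have hE : finrank F E = finrank F (LinearMap.ker ((Aᵀ - 1).mulVecLin)) := by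
      rw [show (Aᵀ - 1) = (A - 1)ᵀ by simp, ← hker]
      congr 2 <;> ext v <;> simp [E, sub_eq_zero, Matrix.sub_mulVec]
    let π₁ : fx (Matrix.toLin' (Matrix.fromBlocks A 0 0 A')) →ₗ[F]
        E × LinearMap.ker ((Aᵀ - 1).mulVecLin) :=
      LinearMap.prod
        (LinearMap.codRestrict E ((LinearMap.funLeft F F Sum.inl).comp (Submodule.subtype _)) (fun v => by
          have h := fx_apply v.2
          rw [Matrix.toLin'_apply, Matrix.fromBlocks_mulVec] at h
          refine Module.End.mem_eigenspace_iff.2 (funext fun j => ?_)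
          have := congrFun h (Sum.inl j)
          simpa [LinearMap.funLeft, Matrix.toLin'_apply, Function.comp_def] using this))
        (LinearMap.codRestrict _ ((LinearMap.funLeft F F Sum.inr).comp (Submodule.subtype _)) (fun v => by
          have h := fx_apply v.2
          rw [Matrix.toLin'_apply, Matrix.fromBlocks_mulVec] at h
          have h1 : A' *ᵥ (fun j => (v : Fin d ⊕ Fin d → F) (Sum.inr j)) =
              fun j => (v : Fin d ⊕ Fin d → F) (Sum.inr j) := funext fun j => by
            have := congrFun h (Sum.inr j)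
            simpa [Function.comp_def] using this
          rw [LinearMap.mem_ker, Matrix.mulVecLin_apply, Matrix.sub_mulVec, Matrix.one_mulVec, sub_eq_zero]
          show Aᵀ *ᵥ (fun j => (v : Fin d ⊕ Fin d → F) (Sum.inr j)) = fun j => (v : Fin d ⊕ Fin d → F) (Sum.inr j)
          conv_lhs => rw [← h1]
          rw [Matrix.mulVec_mulVec, hAA, Matrix.one_mulVec]))
    have hinj : Function.Injective π₁ := fun v w h => Subtype.ext (funext fun j => by
      rcases j with j | j
      · exact congrFun (congrArg (fun x => (x.1 : Fin d → F)) h) j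
      · exact congrFun (congrArg (fun x => (x.2 : Fin d → F)) h) j)
    refine (LinearMap.finrank_le_finrank_of_injective hinj).trans ?_
    rw [Module.finrank_prod, ← hE, two_mul]

end Cfsg.Agent.Classical.SympElem
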