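import Cfsg.Agent.Classical.SympGroup
import Cfsg.Agent.MatModule.SympConj
import Mathlib.LinearAlgebra.Semisimple

/-!
# Invariant subspaces of an isometry of an alternating form
-/

set_option autoImplicit false

namespace Cfsg.Agent.Classical.SympElem

open Module Polynomial Cfsg.Agent.SympConj

universe u v

variable {F : Type u} [Field F] {V : Type v} [AddCommGroup V] [Module F V]

/-- A subspace mapped into itself. -/
def Inv (a : Module.End F V) (W : Submodule F V) : Prop := ∀ w ∈ W, a w ∈ W

/-- A totally isotropic subspace. -/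
def TI (B : LinearMap.BilinForm F V) (W : Submodule F V) : Prop := ∀ u ∈ W, ∀ v ∈ W, B u v = 0

variable {B : LinearMap.BilinForm F V} {a : Module.End F V}

theorem inv_iff {W : Submodule F V} : Inv a W ↔ W.map a ≤ W :=
  ⟨fun h => Submodule.map_le_iff_le_comap.2 h, fun h _ hw => Submodule.map_le_iff_le_comap.1 h hw⟩

theorem inv_top : Inv a (⊤ : Submodule F V) := fun _ _ => Submodule.mem_top

theorem inv_bot : Inv a (⊥ : Submodule F V) := fun w hw => by
  rw [Submodule.mem_bot] at hw ⊢
  rw [hw, map_zero]

theorem Inv.sup {U W : Submodule F V} (hU : Inv a U) (hW : Inv a W) : Inv a (U ⊔ W) := by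
  intro w hw
  obtain ⟨x, hx, y, hy, rfl⟩ := Submodule.mem_sup.1 hw
  rw [map_add]
  exact Submodule.add_mem_sup (hU x hx) (hW y hy)

theorem Inv.inf {U W : Submodule F V} (hU : Inv a U) (hW : Inv a W) : Inv a (U ⊓ W) :=
  fun w hw => ⟨hU w hw.1, hW w hw.2⟩

theorem inv_ker {g : Module.End F V} (h : Commute g a) : Inv a (LinearMap.ker g) := by
  intro w hw
  rw [LinearMap.mem_ker] at hw ⊢
  rw [← Module.End.mul_apply, h.eq, Module.End.mul_apply, hw, map_zero]

theorem inv_range {g : Module.End F V} (h : Commute g a) : Inv a (LinearMap.range g) := by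
  rintro _ ⟨w, rfl⟩
  exact ⟨a w, by rw [← Module.End.mul_apply, h.eq, Module.End.mul_apply]⟩

/-- The semisimplicity consequence used everywhere. -/
theorem exists_compl [FiniteDimensional F V] {g : F[X]} (hg : Squarefree g) (hag : aeval a g = 0)
    {W : Submodule F V} (hW : Inv a W) : ∃ C : Submodule F V, Inv a C ∧ IsCompl W C := by
  have hss := Module.End.isSemisimple_of_squarefree_aeval_eq_zero hg hag
  obtain ⟨C, hC, hc⟩ := Module.End.isSemisimple_iff.1 hss W (fun x hx => hW x hx)
  exact ⟨C, fun x hx => hC hx, hc⟩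

theorem good_restrict [FiniteDimensional F V] (hG : Good B a) {W : Submodule F V} (hW : Inv a W)
    (hN : Alt.NDon B W) : Good (B.restrict W) (a.restrict hW) := by
  refine ⟨fun x => hG.alt _, fun x hx => ?_, fun x y => hG.pres _ _⟩
  by_contra h0
  obtain ⟨z, hz, hne⟩ := hN (x : V) x.2 (fun h => h0 (Subtype.ext h))
  exact hne (hx ⟨z, hz⟩)

theorem mem_orth [FiniteDimensional F V] (hG : Good B a) {W : Submodule F V} {x : V} :
    x ∈ B.orthogonal W ↔ ∀ w ∈ W, B x w = 0 := by
  rw [LinearMap.BilinForm.mem_orthogonal_iff]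
  exact ⟨fun h w hw => by rw [hG.skew w x, h w hw, neg_zero],
    fun h w hw => by rw [hG.skew x w, h w hw, neg_zero]⟩

theorem isRefl_good [FiniteDimensional F V] (hG : Good B a) : B.IsRefl := LinearMap.IsAlt.isRefl hG.alt

theorem finrank_orth [FiniteDimensional F V] (hG : Good B a) (W : Submodule F V) :
    finrank F (B.orthogonal W) = finrank F V - finrank F W :=
  LinearMap.BilinForm.finrank_orthogonal hG.nondeg W

theorem orth_orth [FiniteDimensional F V] (hG : Good B a) (W : Submodule F V) :
    B.orthogonal (B.orthogonal W) = W :=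
  LinearMap.BilinForm.orthogonal_orthogonal hG.nondeg (isRefl_good hG) W

theorem inv_orth [FiniteDimensional F V] (hG : Good B a) {W : Submodule F V} (hW : Inv a W) :
    Inv a (B.orthogonal W) := by
  intro x hx
  rw [mem_orth hG] at hx ⊢
  intro w hw
  have hinj : Function.Injective (a.restrict hW) := fun u v h =>
    Subtype.ext (hG.injective (congrArg Subtype.val h))
  obtain ⟨w', hw'⟩ := LinearMap.injective_iff_surjective.1 hinj ⟨w, hw⟩
  rw [show w = a w' from (congrArg Subtype.val hw').symm, hG.pres]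
  exact hx _ w'.2

theorem isCompl_orth [FiniteDimensional F V] (hG : Good B a) {W : Submodule F V} (hN : Alt.NDon B W) :
    IsCompl W (B.orthogonal W) := by
  have hd : Disjoint W (B.orthogonal W) := by
    rw [Submodule.disjoint_def]
    intro x hx hx'
    by_contra h0
    obtain ⟨z, hz, hne⟩ := hN x hx h0
    exact hne ((mem_orth hG).1 hx' z hz)
  refine ⟨hd, ?_⟩
  rw [codisjoint_iff]
  refine Submodule.eq_top_of_finrank_eq ?_
  have h1 := Submodule.finrank_sup_add_finrank_inf_eq W (B.orthogonal W)
  rw [hd.eq_bot, finrank_bot, finrank_orth hG] at h1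
  have := W.finrank_le
  omega

theorem ndon_orth [FiniteDimensional F V] (hG : Good B a) {W : Submodule F V} (hN : Alt.NDon B W) :
    Alt.NDon B (B.orthogonal W) := by
  intro x hx h0
  by_contra hc
  push Not at hc
  refine h0 (hG.sep x fun y => ?_)
  obtain ⟨u, hu, v, hv, rfl⟩ := Submodule.mem_sup.1
    ((isCompl_orth hG hN).sup_eq_top.symm ▸ Submodule.mem_top (x := y))
  rw [map_add, (mem_orth hG).1 hx u hu, hc v hv, add_zero]

theorem ndon_top' [FiniteDimensional F V] (hG : Good B a) : Alt.NDon B (⊤ : Submodule F V) :=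
  Alt.ndon_top hG.nondeg

/-- Orthogonal non-degenerate subspaces span a non-degenerate subspace. -/
theorem ndon_sup [FiniteDimensional F V] (hG : Good B a) {U W : Submodule F V} (hU : Alt.NDon B U)
    (hW : Alt.NDon B W) (h : U ≤ B.orthogonal W) :
    Alt.NDon B (U ⊔ W) ∧ finrank F (U ⊔ W : Submodule F V) = finrank F U + finrank F W := by
  have horth : ∀ x ∈ U, ∀ y ∈ W, B x y = 0 := fun x hx y hy => (mem_orth hG).1 (h hx) y hy
  refine ⟨fun z hz h0 => ?_, ?_⟩
  · obtain ⟨x, hx, y, hy, rfl⟩ := Submodule.mem_sup.1 hz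
    by_cases hx0 : x = 0
    · subst hx0
      rw [zero_add] at h0
      obtain ⟨w, hw, hne⟩ := hW y hy h0
      exact ⟨w, Submodule.mem_sup_right hw, by rwa [zero_add]⟩
    · obtain ⟨w, hw, hne⟩ := hU x hx hx0
      refine ⟨w, Submodule.mem_sup_left hw, ?_⟩
      rwa [map_add, LinearMap.add_apply, hG.skew w y, horth w hw y hy, neg_zero, add_zero]
  · have hd : Disjoint U W := by
      rw [Submodule.disjoint_def]
      intro x hx hx'
      by_contra h0
      obtain ⟨w, hw, hne⟩ := hU x hx h0
      exact hne (by rw [hG.skew w x, horth w hw x hx', neg_zero])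
    have h1 := Submodule.finrank_sup_add_finrank_inf_eq U W
    rwa [hd.eq_bot, finrank_bot, add_zero] at h1

theorem ti_sup [FiniteDimensional F V] (hG : Good B a) {U W : Submodule F V} (hU : TI B U) (hW : TI B W)
    (h : U ≤ B.orthogonal W) : TI B (U ⊔ W) := by
  have horth : ∀ x ∈ U, ∀ y ∈ W, B x y = 0 := fun x hx y hy => (mem_orth hG).1 (h hx) y hy
  intro z hz z' hz'
  obtain ⟨x, hx, y, hy, rfl⟩ := Submodule.mem_sup.1 hz
  obtain ⟨x', hx', y', hy', rfl⟩ := Submodule.mem_sup.1 hz'
  simp [hU x hx x' hx', hW y hy y' hy', horth x hx y' hy', hG.skew x' y, horth x' hx' y hy]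

/-! ## Subspaces of a subspace -/

theorem inv_lift {P : Submodule F V} {hP : Inv a P} {W : Submodule F P} (hW : Inv (a.restrict hP) W) :
    Inv a (W.map P.subtype) := by
  rintro _ ⟨w, hw, rfl⟩
  exact ⟨_, hW w hw, rfl⟩

theorem ti_lift {P : Submodule F V} {W : Submodule F P} (hW : TI (B.restrict P) W) :
    TI B (W.map P.subtype) := by
  rintro _ ⟨u, hu, rfl⟩ _ ⟨v, hv, rfl⟩
  exact hW u hu v hv

theorem ndon_lift {P : Submodule F V} {W : Submodule F P} (hW : Alt.NDon (B.restrict P) W) :
    Alt.NDon B (W.map P.subtype) := by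
  rintro _ ⟨w, hw, rfl⟩ h0
  obtain ⟨z, hz, hne⟩ := hW w hw (fun h => h0 (by rw [h, map_zero]))
  exact ⟨z, ⟨z, hz, rfl⟩, hne⟩

theorem finrank_lift {P : Submodule F V} (W : Submodule F P) :
    finrank F (W.map P.subtype) = finrank F W :=
  Submodule.finrank_map_subtype_eq P W

theorem lift_le {P : Submodule F V} (W : Submodule F P) : W.map P.subtype ≤ P := by
  rintro _ ⟨w, -, rfl⟩
  exact w.2

/-! ## The fixed space of an element of prime order -/

theorem sum_pow_apply_fixed {x : V} (hx : a x = x) (r : ℕ) :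
    (∑ j ∈ Finset.range r, a ^ j) x = (r : F) • x := by
  have h : ∀ j, (a ^ j) x = x := fun j => by
    induction j with
    | zero => rfl
    | succ j ih => rw [pow_succ', Module.End.mul_apply, ih, hx]
  simp [LinearMap.sum_apply, h, Nat.cast_smul_eq_nsmul]

theorem fixed_decomp [FiniteDimensional F V] (hG : Good B a) {r : ℕ} (hr : (r : F) ≠ 0) (har : a ^ r = 1) :
    IsCompl (LinearMap.ker (a - 1)) (LinearMap.range (a - 1)) ∧
      B.orthogonal (LinearMap.ker (a - 1)) = LinearMap.range (a - 1) ∧
      Alt.NDon B (LinearMap.ker (a - 1)) ∧ Alt.NDon B (LinearMap.range (a - 1)) := by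
  set E := LinearMap.ker (a - 1) with hE
  set R := LinearMap.range (a - 1) with hR
  have hfix : ∀ x ∈ E, a x = x := fun x hx => by
    rw [hE, LinearMap.mem_ker, LinearMap.sub_apply, Module.End.one_apply, sub_eq_zero] at hx
    exact hx
  have hd : Disjoint E R := by
    rw [Submodule.disjoint_def]
    rintro x hx ⟨y, rfl⟩
    have h1 := sum_pow_apply_fixed (hfix _ hx) r
    rw [← Module.End.mul_apply, geom_sum_mul, har, sub_self, LinearMap.zero_apply, eq_comm,
      smul_eq_zero] at h1
    exact h1.resolve_left hr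
  have hle : R ≤ B.orthogonal E := by
    rintro _ ⟨y, rfl⟩
    rw [mem_orth hG]
    intro w hw
    rw [LinearMap.sub_apply, Module.End.one_apply, map_sub, LinearMap.sub_apply]
    nth_rw 1 [← hfix w hw]
    rw [hG.pres, sub_self]
  have hdim := LinearMap.finrank_range_add_finrank_ker (a - 1)
  rw [← hE, ← hR] at hdim
  have heq : B.orthogonal E = R :=
    (Submodule.eq_of_le_of_finrank_le hle (by rw [finrank_orth hG]; omega)).symm
  have hc : IsCompl E R := by
    refine ⟨hd, codisjoint_iff.2 (Submodule.eq_top_of_finrank_eq ?_)⟩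
    have h1 := Submodule.finrank_sup_add_finrank_inf_eq E R
    rw [hd.eq_bot, finrank_bot] at h1
    omega
  have hN : Alt.NDon B E := by
    intro x hx h0
    by_contra hcn
    push Not at hcn
    have : x ∈ R := heq ▸ (mem_orth hG).2 hcn
    exact h0 (Submodule.disjoint_def.1 hd x hx this)
  exact ⟨hc, heq, hN, heq ▸ ndon_orth hG hN⟩

/-- A subspace of prescribed dimension inside a symplectic space, totally isotropic or non-degenerate. -/
theorem exists_sub [FiniteDimensional F V] (hG : Good B a) {U : Submodule F V} (hU : Alt.NDon B U) :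
    Even (finrank F U) ∧
      (∀ k, 2 * k ≤ finrank F U → ∃ W : Submodule F V, W ≤ U ∧ TI B W ∧ finrank F W = k) ∧
      ∀ k, 2 * k ≤ finrank F U → ∃ W : Submodule F V, W ≤ U ∧ Alt.NDon B W ∧ finrank F W = 2 * k := by
  obtain ⟨m, e, f, hb, hm⟩ := Alt.exists_sympBasis hG.alt U hU
  refine ⟨⟨m, by omega⟩, fun k hk => ?_, fun k hk => ?_⟩
  · have hkm : k ≤ m := by omega
    refine ⟨Submodule.span F (Set.range (e ∘ Fin.castLE hkm)), Submodule.span_le.2 ?_, ?_, ?_⟩
    · rintro _ ⟨j, rfl⟩; exact hb.mem_e _
    · intro x hx y hy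
      induction hx using Submodule.span_induction with
      | zero => simp
      | add s t _ _ hs ht => simp [hs, ht]
      | smul c s _ hs => simp [hs]
      | mem s hs =>
        obtain ⟨j, rfl⟩ := hs
        induction hy using Submodule.span_induction with
        | zero => simp
        | add s t _ _ hs ht => rw [map_add, hs, ht, add_zero]
        | smul c s _ hs => rw [map_smul, hs, smul_zero]
        | mem s hs => obtain ⟨j', rfl⟩ := hs; exact hb.ee _ _
    · rw [finrank_span_eq_card, Fintype.card_fin]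
      have := (hb.linearIndependent hG.alt).comp (fun j => Sum.inl (Fin.castLE hkm j))
        (fun x y h => Fin.castLE_injective hkm (Sum.inl_injective h))
      exact this
  · have hkm : k ≤ m := by omega
    set g : Fin k ⊕ Fin k → V := Sum.elim (e ∘ Fin.castLE hkm) (f ∘ Fin.castLE hkm) with hg
    have hli : LinearIndependent F g := by
      have := (hb.linearIndependent hG.alt).comp (Sum.map (Fin.castLE hkm) (Fin.castLE hkm))
        (Sum.map_injective.2 ⟨Fin.castLE_injective hkm, Fin.castLE_injective hkm⟩)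
      convert this using 1
      funext j
      cases j <;> rfl
    refine ⟨Submodule.span F (Set.range g), Submodule.span_le.2 ?_, ?_, ?_⟩
    · rintro _ ⟨j | j, rfl⟩
      · exact hb.mem_e _
      · exact hb.mem_f _
    · intro x hx h0
      obtain ⟨c, hc⟩ := (Submodule.mem_span_range_iff_exists_fun F).1 hx
      by_contra hcn
      push Not at hcn
      refine h0 ?_
      rw [← hc]
      refine Finset.sum_eq_zero fun j _ => smul_eq_zero_of_left ?_ _
      rcases j with j | j
      · have := hcn (g (Sum.inr j)) (Submodule.subset_span ⟨_, rfl⟩)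
        rw [← hc, map_sum, LinearMap.sum_apply, Finset.sum_eq_single (Sum.inl j)] at this
        · simpa [hg, hb.ef] using this
        · rintro (i | i) _ hij
          · have : i ≠ j := fun h => hij (by rw [h])
            simp [hg, hb.ef, (Fin.castLE_injective hkm).ne this]
          · simp [hg, hb.ff]
        · exact fun h => absurd (Finset.mem_univ _) h
      · have := hcn (g (Sum.inl j)) (Submodule.subset_span ⟨_, rfl⟩)
        rw [← hc, map_sum, LinearMap.sum_apply, Finset.sum_eq_single (Sum.inr j)] at this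
        · simpa [hg, hG.skew (e _) (f _), hb.ef] using this
        · rintro (i | i) _ hij
          · simp [hg, hb.ee]
          · have : j ≠ i := fun h => hij (by rw [h])
            simp [hg, hG.skew (e _) (f _), hb.ef, (Fin.castLE_injective hkm).ne this]
        · exact fun h => absurd (Finset.mem_univ _) h
    · rw [finrank_span_eq_card hli, Fintype.card_sum, Fintype.card_fin, two_mul]

theorem two_mul_le_of_ti [FiniteDimensional F V] (hG : Good B a) {U W : Submodule F V} (hU : Alt.NDon B U)
    (hW : TI B W) (h : W ≤ U) : 2 * finrank F W ≤ finrank F U := by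
  have h1 : W ⊔ B.orthogonal U ≤ B.orthogonal W := by
    refine sup_le (fun x hx => (mem_orth hG).2 fun y hy => hW x hx y hy) ?_
    exact fun x hx => (mem_orth hG).2 fun y hy => (mem_orth hG).1 hx y (h hy)
  have h2 := Submodule.finrank_mono h1
  have h3 := Submodule.finrank_sup_add_finrank_inf_eq W (B.orthogonal U)
  rw [((isCompl_orth hG hU).disjoint.mono_left h).eq_bot, finrank_bot, finrank_orth hG] at h3
  rw [finrank_orth hG] at h2
  have := U.finrank_le
  omega

/-! ## Symplectic matrices -/

theorem good_matrix {d : ℕ} (x : Matrix.symplecticGroup (Fin d) F) :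
    Good (sympB d F) (Matrix.toLin' x.1) := by
  refine ⟨sympB_isAlt, fun u hu => sympB_nondeg.1 u hu, fun u v => ?_⟩
  rw [Matrix.toLin'_apply, Matrix.toLin'_apply]
  exact (mem_symplectic_iff x.1).1 x.2 u v

theorem exists_realize [FiniteDimensional F V] (hG : Good B a) {d : ℕ} (hd : finrank F V = 2 * d) :
    ∃ (x : Matrix.symplecticGroup (Fin d) F) (Ψ : V ≃ₗ[F] (Fin d ⊕ Fin d → F)),
      (∀ v, Ψ (a v) = Matrix.toLin' x.1 (Ψ v)) ∧ ∀ u v, sympB d F (Ψ u) (Ψ v) = B u v := by
  obtain ⟨m, k, b, hef, hee, hff, hk⟩ := Alt.exists_basis_symp hG.alt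
  have hk0 : k = 0 := by
    by_contra h
    exact b.ne_zero (Sum.inr ⟨0, Nat.pos_of_ne_zero h⟩) (hG.sep _ (hk _))
  subst hk0
  obtain rfl : m = d := by
    have h := Module.finrank_eq_card_basis b
    simp at h
    omega
  set Ψ : V ≃ₗ[F] (Fin m ⊕ Fin m → F) := (b.reindex ((Equiv.sumEmpty _ _).trans (Equiv.sumComm _ _))).equivFun with hΨ
  have hb : ∀ i, Ψ (b (Sum.inl i)) = Pi.single i.swap 1 := fun i => by
    funext j
    simp [hΨ, Pi.single_apply, Finsupp.single_apply, eq_comm]
  have hform : ∀ u v, sympB m F (Ψ u) (Ψ v) = B u v := by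
    have : (sympB m F).comp Ψ.toLinearMap Ψ.toLinearMap = B := by
      refine LinearMap.BilinForm.ext_basis b fun i j => ?_
      rcases i with i | i
      swap
      · exact i.elim0
      rcases j with j | j
      swap
      · exact j.elim0
      rw [LinearMap.BilinForm.comp_apply, LinearEquiv.coe_coe, hb, hb]
      rcases i with i | i <;> rcases j with j | j
      · rw [hee, sympB_eq_sum]; simp [Pi.single_apply]
      · rw [hef, sympB_eq_sum]; simp [Pi.single_apply, Finset.sum_ite_eq, eq_comm]
      · rw [hG.skew, hef, sympB_eq_sum]; simp [Pi.single_apply, Finset.sum_ite_eq, eq_comm]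
      · rw [hff, sympB_eq_sum]; simp [Pi.single_apply]
    exact fun u v => LinearMap.congr_fun (LinearMap.congr_fun this u) v
  set T : Module.End F (Fin m ⊕ Fin m → F) := Ψ.toLinearMap ∘ₗ a ∘ₗ Ψ.symm.toLinearMap with hT
  refine ⟨⟨LinearMap.toMatrix' T, (mem_symplectic_iff _).2 fun u v => ?_⟩, Ψ, fun v => ?_, hform⟩
  · rw [LinearMap.toMatrix'_mulVec, LinearMap.toMatrix'_mulVec]
    obtain ⟨u, rfl⟩ := Ψ.surjective u
    obtain ⟨v, rfl⟩ := Ψ.surjective v
    simp only [hT, LinearMap.comp_apply, LinearEquiv.coe_coe, LinearEquiv.symm_apply_apply, hform, hG.pres]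
  · simp [hT]

end Cfsg.Agent.Classical.SympElem
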