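import Cfsg.Agent.Classical.SympElem.Involution
import Cfsg.Agent.Classical.IsoStab
import Cfsg.Agent.Classical.Elusive.Count

/-!
# Prime divisors of the numbers of totally isotropic and of non-degenerate subspaces
-/

set_option autoImplicit false

namespace Cfsg.Agent.Classical.SympElem

open Module Cfsg.Agent.SympConj Cfsg.Agent.Classical.Elusive

universe u v

variable {F : Type u} [Field F] [Fintype F]

theorem card_ti_mul {d m : ℕ} (hmd : m ≤ d) :
    Nat.card {W : Submodule F (Fin d ⊕ Fin d → F) //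
        finrank F W = m ∧ ∀ u ∈ W, ∀ v ∈ W, Cfsg.sympForm d F u v = 0} *
      topProd (Fintype.card F) m m = ∏ j ∈ Finset.range m, (Fintype.card F ^ (2 * (d - j)) - 1) := by
  classical
  set V := Fin d ⊕ Fin d → F
  set q := Fintype.card F
  haveI : Fintype {W : Submodule F V // finrank F W = m ∧ ∀ u ∈ W, ∀ v ∈ W, Cfsg.sympForm d F u v = 0} :=
    Fintype.ofFinite _
  set f : (Σ W : {W : Submodule F V // finrank F W = m ∧ ∀ u ∈ W, ∀ v ∈ W, Cfsg.sympForm d F u v = 0},
      {t : Fin m → W.1 // LinearIndependent F t}) →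
      IsoStab.Frames F (fun u v : V => Cfsg.sympForm d F u v = 0) m :=
    fun x => ⟨fun i => (x.2.1 i : V), x.2.2.map' x.1.1.subtype (Submodule.ker_subtype _),
      fun i j => x.1.2.2 _ (x.2.1 i).2 _ (x.2.1 j).2⟩ with hf
  have hspan : ∀ x, Submodule.span F (Set.range (f x).1) = x.1.1 := by
    intro x
    refine Submodule.eq_of_le_of_finrank_le (Submodule.span_le.2 ?_) ?_
    · rintro _ ⟨i, rfl⟩
      exact (x.2.1 i).2
    · rw [finrank_span_eq_card (f x).2.1, Fintype.card_fin, x.1.2.1]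
  have hti : ∀ s : IsoStab.Frames F (fun u v : V => Cfsg.sympForm d F u v = 0) m,
      ∀ u ∈ Submodule.span F (Set.range s.1), ∀ v ∈ Submodule.span F (Set.range s.1),
        Cfsg.sympForm d F u v = 0 := by
    intro s u hu v hv
    rw [← sympB_apply]
    induction hu using Submodule.span_induction with
    | zero => simp
    | add a b _ _ ha hb => simp [ha, hb]
    | smul c a _ ha => simp [ha]
    | mem a ha =>
      obtain ⟨i, rfl⟩ := ha
      induction hv using Submodule.span_induction with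
      | zero => simp
      | add a b _ _ ha hb => rw [map_add, ha, hb, add_zero]
      | smul c a _ ha => rw [map_smul, ha, smul_zero]
      | mem a ha => obtain ⟨j, rfl⟩ := ha; rw [sympB_apply]; exact s.2.2 i j
  have hbij : Function.Bijective f := by
    refine ⟨fun x y h => ?_, fun s => ?_⟩
    · have hW : x.1 = y.1 := Subtype.ext (by rw [← hspan x, ← hspan y, h])
      obtain ⟨W, t⟩ := x
      obtain ⟨W', t'⟩ := y
      simp only at hW
      subst hW
      refine Sigma.ext rfl (heq_of_eq (Subtype.ext (funext fun i => Subtype.ext ?_)))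
      exact congrFun (congrArg Subtype.val h) i
    · refine ⟨⟨⟨Submodule.span F (Set.range s.1),
        by rw [finrank_span_eq_card s.2.1, Fintype.card_fin], hti s⟩,
        ⟨fun i => ⟨s.1 i, Submodule.subset_span ⟨i, rfl⟩⟩, ?_⟩⟩, rfl⟩
      exact LinearIndependent.of_comp (Submodule.subtype _) s.2.1
  have h := Nat.card_congr (Equiv.ofBijective f hbij)
  rw [IsoStab.card_symp_frames rfl hmd, Nat.card_sigma,
    Finset.sum_congr rfl fun W _ => ?_, Finset.sum_const, Finset.card_univ, ← Nat.card_eq_fintype_card, smul_eq_mul] at h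
  pick_goal 2
  · exact (card_linearIndependent (K := F) (V := W.1) W.2.1.ge).trans (by rw [W.2.1, prod_pow_sub _ le_rfl])
  have h2 : ∀ i ∈ Finset.range m, q ^ (2 * d - i) - q ^ i = q ^ i * (q ^ (2 * (d - i)) - 1) := by
    intro i hi
    have := Finset.mem_range.1 hi
    rw [Nat.mul_sub, mul_one, ← pow_add, show i + 2 * (d - i) = 2 * d - i by omega]
  rw [Finset.prod_congr rfl h2, Finset.prod_mul_distrib] at h
  refine Nat.eq_of_mul_eq_mul_left (Finset.prod_pos fun i _ => pow_pos Fintype.card_pos i :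
    0 < ∏ i ∈ Finset.range m, q ^ i) ?_
  rw [← h]
  ring

theorem exists_of_dvd_prod {r d k : ℕ} [Fact r.Prime]
    (h : r ∣ ∏ j ∈ Finset.range k, (Fintype.card F ^ (2 * (d - j)) - 1)) :
    ∃ j < k, orderOf (Fintype.card F : ZMod r) ∣ 2 * (d - j) := by
  obtain ⟨j, hj, hj'⟩ := ((Fact.out : r.Prime).prime.dvd_finsetProd_iff _).1 h
  exact ⟨j, Finset.mem_range.1 hj, (LargeSylow.dvd_sub_iff Fintype.card_pos _).1 hj'⟩

theorem of_dvd_ti {r d m : ℕ} [Fact r.Prime] (hmd : m ≤ d)
    (h : r ∣ Nat.card {W : Submodule F (Fin d ⊕ Fin d → F) //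
        finrank F W = m ∧ ∀ u ∈ W, ∀ v ∈ W, Cfsg.sympForm d F u v = 0}) :
    r ∣ ∏ j ∈ Finset.range m, (Fintype.card F ^ (2 * (d - j)) - 1) := by
  rw [← card_ti_mul hmd]
  exact h.mul_right _

variable {V : Type v} [AddCommGroup V] [Module F V] [FiniteDimensional F V] {B : LinearMap.BilinForm F V}

/-- The number of hyperbolic pairs of a symplectic space of dimension `2d`. -/
def pairsCard (q d : ℕ) : ℕ := (q ^ (2 * d) - 1) * q ^ (2 * d - 1)

theorem card_nd_mul (hA : B.IsAlt) (hsep : ∀ x, (∀ y, B x y = 0) → x = 0) :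
    ∀ (h d : ℕ) (U : Submodule F V), Alt.NDon B U → finrank F U = 2 * d → h ≤ d →
      Nat.card {W : Submodule F V // W ≤ U ∧ Alt.NDon B W ∧ finrank F W = 2 * h} *
        ∏ j ∈ Finset.range h, pairsCard (Fintype.card F) (h - j) =
      ∏ j ∈ Finset.range h, pairsCard (Fintype.card F) (d - j) := by
  classical
  haveI : Finite V := Module.finite_of_finite F
  have hG : Good B (1 : Module.End F V) := ⟨hA, hsep, fun x y => rfl⟩
  have hS : ∀ u v, B u v = 1 → Alt.NDon B (Submodule.span F (Set.range ![u, v])) ∧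
      finrank F (Submodule.span F (Set.range ![u, v])) = 2 := fun u v huv => by
    refine ndon_span_range (B := B) _ fun c hc => ?_
    have h0 := hc 0
    have h1 := hc 1
    simp [Fin.sum_univ_two, hA u, hA v, huv, Alt.neg' hA u v] at h0 h1
    funext j
    fin_cases j
    · exact h1
    · exact h0
  intro h
  induction h with
  | zero =>
    intro d U _ _ _
    rw [Finset.prod_range_zero, Finset.prod_range_zero, mul_one, Nat.card_eq_one_iff_unique]
    refine ⟨⟨fun a b => Subtype.ext ?_⟩, ⟨⟨⊥, bot_le, fun w hw h0 => absurd ((Submodule.mem_bot F).1 hw) h0, by simp⟩⟩⟩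
    rw [show a.1 = ⊥ by simpa using a.2.2.2, show b.1 = ⊥ by simpa using b.2.2.2]
  | succ h ih =>
    intro d U hU hdim hhd
    obtain ⟨d, rfl⟩ : ∃ k, d = k + 1 := ⟨d - 1, by omega⟩
    let P := {p : U × U // B p.1 p.2 = 1}
    let Big := {W : Submodule F V // W ≤ U ∧ Alt.NDon B W ∧ finrank F W = 2 * (h + 1)}
    let Sm := fun p : P => {W : Submodule F V // W ≤ Alt.redW B U (p.1.1 : V) (p.1.2 : V) ∧ Alt.NDon B W ∧
      finrank F W = 2 * h}
    let f : (Σ W : Big, {p : W.1 × W.1 // B p.1 p.2 = 1}) → Σ p : P, Sm p := fun x =>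
      ⟨⟨(⟨x.2.1.1, x.1.2.1 x.2.1.1.2⟩, ⟨x.2.1.2, x.1.2.1 x.2.1.2.2⟩), x.2.2⟩,
        ⟨Alt.redW B x.1.1 x.2.1.1 x.2.1.2,
          fun z hz => Alt.mem_redW.2 ⟨x.1.2.1 (Alt.mem_redW.1 hz).1, (Alt.mem_redW.1 hz).2⟩,
          Alt.ndon_redW hA x.1.2.2.1 x.2.1.1.2 x.2.1.2.2 x.2.2,
          by have := Alt.finrank_redW_add_two hA x.2.1.1.2 x.2.1.2.2 x.2.2; rw [x.1.2.2.2] at this; omega⟩⟩
    have hrec : ∀ (W : Submodule F V) (u v : V), u ∈ W → v ∈ W → B u v = 1 →
        Alt.redW B W u v ⊔ Submodule.span F (Set.range ![u, v]) = W := by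
      intro W u v hu hv huv
      refine le_antisymm (sup_le (fun z hz => (Alt.mem_redW.1 hz).1) (Submodule.span_le.2 ?_)) fun z hz => ?_
      · rintro _ ⟨j, rfl⟩
        fin_cases j
        · exact hu
        · exact hv
      · rw [show z = Alt.rmap B u v z + (B z v • u - B z u • v) by rw [Alt.rmap_apply]; abel]
        exact Submodule.add_mem_sup (Alt.rmap_mem hA hu hv hz huv) (Submodule.sub_mem _
          (Submodule.smul_mem _ _ (Submodule.subset_span ⟨0, rfl⟩))
          (Submodule.smul_mem _ _ (Submodule.subset_span ⟨1, rfl⟩)))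
    have hf : Function.Bijective f := by
      constructor
      · rintro ⟨W, p⟩ ⟨W', p'⟩ e
        have e1 : ((p.1.1 : V), (p.1.2 : V), Alt.redW B W.1 p.1.1 p.1.2) =
            ((p'.1.1 : V), (p'.1.2 : V), Alt.redW B W'.1 p'.1.1 p'.1.2) :=
          congrArg (fun y : Σ p : P, Sm p => ((y.1.1.1 : V), (y.1.1.2 : V), y.2.1)) e
        simp only [Prod.mk.injEq] at e1
        obtain ⟨e1, e2, e3⟩ := e1
        have hWW : W = W' := Subtype.ext (by
          rw [← hrec W.1 _ _ p.1.1.2 p.1.2.2 p.2, ← hrec W'.1 _ _ p'.1.1.2 p'.1.2.2 p'.2, e3, e1, e2])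
        subst hWW
        exact Sigma.ext rfl (heq_of_eq (Subtype.ext (Prod.ext (Subtype.ext e1) (Subtype.ext e2))))
      · rintro ⟨⟨⟨u, v⟩, huv⟩, ⟨W, hWU, hWn, hWd⟩⟩
        obtain ⟨hn, hd2⟩ := hS u v huv
        have horth : W ≤ B.orthogonal (Submodule.span F (Set.range ![(u : V), (v : V)])) := fun z hz => by
          rw [mem_orth hG]
          intro y hy
          obtain ⟨-, h1, h2⟩ := Alt.mem_redW.1 (hWU hz)
          obtain ⟨c, rfl⟩ := (Submodule.mem_span_range_iff_exists_fun F).1 hy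
          simp [Fin.sum_univ_two, Alt.neg' hA (u : V) z, Alt.neg' hA (v : V) z, h1, h2]
        obtain ⟨hn', hd'⟩ := ndon_sup hG hWn hn horth
        set W' := W ⊔ Submodule.span F (Set.range ![(u : V), (v : V)]) with hW'
        have hu : (u : V) ∈ W' := Submodule.mem_sup_right (Submodule.subset_span ⟨0, rfl⟩)
        have hv : (v : V) ∈ W' := Submodule.mem_sup_right (Submodule.subset_span ⟨1, rfl⟩)
        have hle : W' ≤ U := sup_le (fun z hz => (Alt.mem_redW.1 (hWU hz)).1) (Submodule.span_le.2 (by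
          rintro _ ⟨j, rfl⟩
          fin_cases j
          · exact u.2
          · exact v.2))
        have hd'' : finrank F W' = 2 * (h + 1) := by rw [hd', hWd, hd2]; ring
        refine ⟨⟨⟨W', hle, hn', hd''⟩, ⟨(⟨u, hu⟩, ⟨v, hv⟩), huv⟩⟩, ?_⟩
        refine Sigma.ext rfl (heq_of_eq (Subtype.ext ?_))
        refine le_antisymm (fun z hz => ?_) fun z hz => Alt.mem_redW.2
          ⟨Submodule.mem_sup_left hz, (Alt.mem_redW.1 (hWU hz)).2⟩
        obtain ⟨hzW, h1, h2⟩ := Alt.mem_redW.1 hz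
        obtain ⟨w, hw, s, hs, rfl⟩ := Submodule.mem_sup.1 hzW
        obtain ⟨c, rfl⟩ := (Submodule.mem_span_range_iff_exists_fun F).1 hs
        obtain ⟨-, g1, g2⟩ := Alt.mem_redW.1 (hWU hw)
        simp [Fin.sum_univ_two, g1, g2, hA (u : V), hA (v : V), Alt.neg' hA (u : V) (v : V), show B (u : V) v = 1 from huv] at h1 h2
        simpa [Fin.sum_univ_two, h1, h2] using hw
    haveI : Fintype Big := Fintype.ofFinite _
    haveI : Fintype P := Fintype.ofFinite _
    have hc := Nat.card_congr (Equiv.ofBijective f hf)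
    rw [Nat.card_sigma, Nat.card_sigma, Finset.sum_congr rfl fun (W : Big) _ => (Alt.card_pairs hA W.2.2.1),
      Finset.sum_congr rfl fun (W : Big) _ => (by rw [W.2.2.2]; rfl :
        (Fintype.card F ^ finrank F W.1 - 1) * Fintype.card F ^ (finrank F W.1 - 1) =
          pairsCard (Fintype.card F) (h + 1)), Finset.sum_const, Finset.card_univ, smul_eq_mul,
      ← Nat.card_eq_fintype_card] at hc
    have hsm : ∀ p : P, Nat.card (Sm p) * ∏ j ∈ Finset.range h, pairsCard (Fintype.card F) (h - j) =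
        ∏ j ∈ Finset.range h, pairsCard (Fintype.card F) (d - j) := fun p =>
      ih d _ (Alt.ndon_redW hA hU p.1.1.2 p.1.2.2 p.2)
        (by have := Alt.finrank_redW_add_two hA p.1.1.2 p.1.2.2 p.2; omega) (by omega)
    have hP : Nat.card P = pairsCard (Fintype.card F) (d + 1) := by
      rw [show Nat.card P = _ from Alt.card_pairs hA hU, hdim]; rfl
    rw [Finset.prod_range_succ', Finset.prod_range_succ']
    simp only [Nat.sub_zero, Nat.add_sub_add_right]
    change Nat.card Big * _ = _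
    rw [mul_comm (∏ j ∈ Finset.range h, _), ← mul_assoc, hc, Finset.sum_mul,
      Finset.sum_congr rfl fun p _ => hsm p, Finset.sum_const, Finset.card_univ, smul_eq_mul,
      ← Nat.card_eq_fintype_card, hP, mul_comm]

theorem of_dvd_nd {r d m : ℕ} [Fact r.Prime] (hr : ¬ r ∣ Fintype.card F) (hme : Even m) (hmd : m ≤ d)
    (h : r ∣ Nat.card {W : Submodule F (Fin d ⊕ Fin d → F) //
        finrank F W = m ∧ ∀ u ∈ W, u ≠ 0 → ∃ v ∈ W, Cfsg.sympForm d F u v ≠ 0}) :
    r ∣ ∏ j ∈ Finset.range (m / 2), (Fintype.card F ^ (2 * (d - j)) - 1) := by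
  have hcard := card_nd_mul (F := F) (B := sympB d F) sympB_isAlt (fun x hx => sympB_nondeg.1 x hx) (m / 2) d ⊤
    (Alt.ndon_top sympB_nondeg) (by rw [finrank_top, finrank_symp]) (by omega)
  have he : Nat.card {W : Submodule F (Fin d ⊕ Fin d → F) //
        finrank F W = m ∧ ∀ u ∈ W, u ≠ 0 → ∃ v ∈ W, Cfsg.sympForm d F u v ≠ 0} =
      Nat.card {W : Submodule F (Fin d ⊕ Fin d → F) //
        W ≤ ⊤ ∧ Alt.NDon (sympB d F) W ∧ finrank F W = 2 * (m / 2)} := by
    refine Nat.card_congr (Equiv.subtypeEquivRight fun W => ?_)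
    rw [Nat.two_mul_div_two_of_even hme]
    simp only [le_top, true_and, Alt.NDon, sympB_apply]
    exact ⟨fun h => ⟨h.2, h.1⟩, fun h => ⟨h.2, h.1⟩⟩
  rw [← he] at hcard
  have h2 : r ∣ ∏ j ∈ Finset.range (m / 2), pairsCard (Fintype.card F) (d - j) := by
    rw [← hcard]; exact h.mul_right _
  simp only [pairsCard, Finset.prod_mul_distrib] at h2
  refine ((Fact.out : r.Prime).dvd_mul.1 h2).resolve_right fun h3 => ?_
  obtain ⟨j, -, hj⟩ := ((Fact.out : r.Prime).prime.dvd_finsetProd_iff _).1 h3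
  exact hr ((Fact.out : r.Prime).dvd_of_dvd_pow hj)

end Cfsg.Agent.Classical.SympElem
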