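import Cfsg.Agent.Classical.SympElem.PrimeOrder
import Cfsg.Agent.Classical.Elusive.Cycle
import Cfsg.Prelude.Def_GeometricClasses

/-!
# Orthogonal decompositions permuted by an isometry
-/

set_option autoImplicit false

namespace Cfsg.Agent.Classical.SympElem

open Module Cfsg.Agent.SympConj

universe u v

variable {F : Type u} [Field F] {V : Type v} [AddCommGroup V] [Module F V] [FiniteDimensional F V]
  {B : LinearMap.BilinForm F V} {φ : Module.End F V}

/-- Pairwise orthogonal non-degenerate subspaces of one dimension inside a subspace. -/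
structure OrthDec (B : LinearMap.BilinForm F V) (U : Submodule F V) (a : ℕ) {ι : Type*}
    (D : ι → Submodule F V) : Prop where
  le : ∀ j, D j ≤ U
  nd : ∀ j, Alt.NDon B (D j)
  dim : ∀ j, finrank F (D j) = a
  orth : ∀ j j', j ≠ j' → ∀ u ∈ D j, ∀ v ∈ D j', B u v = 0

/-- The members are permuted. -/
def Permuted (φ : Module.End F V) {ι : Type*} (D : ι → Submodule F V) : Prop :=
  ∃ σ : Equiv.Perm ι, ∀ j, (D j).map φ = D (σ j)

theorem OrthDec.sum_eq_zero {U : Submodule F V} {a : ℕ} {ι : Type*} [Fintype ι] {D : ι → Submodule F V}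
    (h : OrthDec B U a D) {v : ι → V} (hv : ∀ j, v j ∈ D j) (hsum : ∑ j, v j = 0) (j : ι) : v j = 0 := by
  by_contra h0
  obtain ⟨z, hz, hne⟩ := h.nd j (v j) (hv j) h0
  refine hne ?_
  have h1 := congrArg (fun x => B x z) hsum
  simp only [map_sum, LinearMap.sum_apply, map_zero, LinearMap.zero_apply] at h1
  rwa [Finset.sum_eq_single j (fun k _ hk => h.orth k j hk _ (hv k) z hz)
    (fun hn => absurd (Finset.mem_univ j) hn)] at h1

theorem OrthDec.sum_finrank_le {U : Submodule F V} {a : ℕ} {ι : Type*} [Fintype ι] {D : ι → Submodule F V}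
    (h : OrthDec B U a D) {S : ι → Submodule F V} (hS : ∀ j, S j ≤ D j) {E : Submodule F V} (hE : ∀ j, S j ≤ E) :
    ∑ j, finrank F (S j) ≤ finrank F E := by
  let f : (∀ j, S j) →ₗ[F] E := LinearMap.codRestrict E
    (∑ j, (S j).subtype.comp (LinearMap.proj j)) (fun v => by
      rw [LinearMap.sum_apply]
      exact E.sum_mem fun j _ => hE j (v j).2)
  have hf : Function.Injective f := by
    rw [← LinearMap.ker_eq_bot, LinearMap.ker_eq_bot']
    intro v hv
    have h1 : ∑ j, (v j : V) = 0 := by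
      have := congrArg Subtype.val hv
      simpa [f, LinearMap.sum_apply] using this
    exact funext fun j => Subtype.ext (h.sum_eq_zero (fun j => hS j (v j).2) h1 j)
  have := LinearMap.finrank_le_finrank_of_injective hf
  rwa [Module.finrank_pi_fintype] at this

theorem OrthDec.indep (hG : Good B φ) {U : Submodule F V} {a : ℕ} {ι : Type*} {D : ι → Submodule F V}
    (h : OrthDec B U a D) : iSupIndep D := by
  intro j
  rw [Submodule.disjoint_def]
  intro x hx hx'
  by_contra h0
  obtain ⟨z, hz, hne⟩ := h.nd j x hx h0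
  have hle : (⨆ (k : ι) (_ : k ≠ j), D k) ≤ B.orthogonal (D j) :=
    iSup₂_le fun k hk y hy => (mem_orth hG).2 fun w hw => h.orth k j hk y hy w hw
  exact hne ((mem_orth hG).1 (hle hx') z hz)

theorem OrthDec.isMDecomposition {n : Type} [Fintype n] {B : LinearMap.BilinForm F (n → F)}
    {φ : Module.End F (n → F)} (hG : Good B φ) {a t : ℕ} (ha : 0 < a) (ht : 2 ≤ t)
    (hdim : finrank F (n → F) = a * t) {D : Fin t → Submodule F (n → F)} (h : OrthDec B ⊤ a D) :
    Cfsg.Geo.IsMDecomposition a D := by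
  refine ⟨ht, ha, h.dim, h.indep hG, Submodule.eq_top_of_finrank_eq (le_antisymm (Submodule.finrank_le _) ?_)⟩
  calc finrank F (n → F) = ∑ j, finrank F (D j) := by
        simp [h.dim, hdim, mul_comm]
    _ ≤ _ := h.sum_finrank_le (fun j => le_rfl) fun j => le_iSup D j

theorem OrthDec.append (hG : Good B φ) {U U₁ U₂ : Submodule F V} {a s₁ s₂ t : ℕ} (hst : s₁ + s₂ = t)
    (hU₁ : U₁ ≤ U) (hU₂ : U₂ ≤ U) (hor : U₁ ≤ B.orthogonal U₂)
    {D₁ : Fin s₁ → Submodule F V} {D₂ : Fin s₂ → Submodule F V}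
    (h₁ : OrthDec B U₁ a D₁) (h₂ : OrthDec B U₂ a D₂) (p₁ : Permuted φ D₁) (p₂ : Permuted φ D₂) :
    ∃ D : Fin t → Submodule F V, OrthDec B U a D ∧ Permuted φ D := by
  obtain ⟨σ₁, hσ₁⟩ := p₁
  obtain ⟨σ₂, hσ₂⟩ := p₂
  set e : Fin t ≃ Fin s₁ ⊕ Fin s₂ := (finCongr hst.symm).trans finSumFinEquiv.symm
  set D : Fin t → Submodule F V := fun j => Sum.elim D₁ D₂ (e j)
  refine ⟨D, ⟨fun j => ?_, fun j => ?_, fun j => ?_, fun j j' hjj u hu v hv => ?_⟩,
    e.trans ((Equiv.sumCongr σ₁ σ₂).trans e.symm), fun j => ?_⟩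
  · show Sum.elim D₁ D₂ (e j) ≤ U
    rcases e j with k | k
    · exact (h₁.le k).trans hU₁
    · exact (h₂.le k).trans hU₂
  · show Alt.NDon B (Sum.elim D₁ D₂ (e j))
    rcases e j with k | k
    · exact h₁.nd k
    · exact h₂.nd k
  · show finrank F (Sum.elim D₁ D₂ (e j) : Submodule F V) = a
    rcases e j with k | k
    · exact h₁.dim k
    · exact h₂.dim k
  · change u ∈ Sum.elim D₁ D₂ (e j) at hu
    change v ∈ Sum.elim D₁ D₂ (e j') at hv
    have hne : e j ≠ e j' := e.injective.ne hjj
    rcases hj : e j with k | k <;> rw [hj] at hu hne <;> rcases hj' : e j' with l | l <;> rw [hj'] at hv hne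
    · exact h₁.orth k l (fun h => hne (by rw [h])) u hu v hv
    · exact (mem_orth hG).1 (hor (h₁.le k hu)) v (h₂.le l hv)
    · rw [hG.skew v u, (mem_orth hG).1 (hor (h₁.le l hv)) u (h₂.le k hu), neg_zero]
    · exact h₂.orth k l (fun h => hne (by rw [h])) u hu v hv
  · show (Sum.elim D₁ D₂ (e j)).map φ = Sum.elim D₁ D₂ (e (e.symm (Equiv.sumCongr σ₁ σ₂ (e j))))
    rw [Equiv.apply_symm_apply]
    rcases e j with k | k
    · exact hσ₁ k
    · exact hσ₂ k

theorem map_eq_self (hG : Good B φ) {W : Submodule F V} (hW : Inv φ W) : W.map φ = W :=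
  Submodule.eq_of_le_of_finrank_eq (inv_iff.1 hW) (Submodule.equivMapOfInjective φ hG.injective W).finrank_eq.symm

theorem single_dec (hG : Good B φ) {W : Submodule F V} (hW : Inv φ W) (hN : Alt.NDon B W) :
    OrthDec B W (finrank F W) (fun _ : Fin 1 => W) ∧ Permuted φ (fun _ : Fin 1 => W) :=
  ⟨⟨fun _ => le_rfl, fun _ => hN, fun _ => rfl, fun j j' h => absurd (Subsingleton.elim j j') h⟩,
    1, fun _ => map_eq_self hG hW⟩

/-- The decomposition of a whole space from a step producing at least one summand. -/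
theorem exists_dec (hG : Good B φ) {a : ℕ}
    (step : ∀ (s : ℕ) (U : Submodule F V), Inv φ U → Alt.NDon B U → finrank F U = a * (s + 1) →
      ∃ (s₁ : ℕ) (W : Submodule F V) (D : Fin s₁ → Submodule F V), 0 < s₁ ∧ s₁ ≤ s + 1 ∧ W ≤ U ∧ Inv φ W ∧
        Alt.NDon B W ∧ finrank F W = a * s₁ ∧ OrthDec B W a D ∧ Permuted φ D) :
    ∀ (t : ℕ) (U : Submodule F V), Inv φ U → Alt.NDon B U → finrank F U = a * t →
      ∃ D : Fin t → Submodule F V, OrthDec B U a D ∧ Permuted φ D := by
  intro t
  induction t using Nat.strong_induction_on with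
  | _ t ih =>
    intro U hU hN hdim
    rcases t with _ | s
    · exact ⟨fun j => j.elim0, ⟨fun j => j.elim0, fun j => j.elim0, fun j => j.elim0, fun j => j.elim0⟩,
        1, fun j => j.elim0⟩
    obtain ⟨s₁, W, D₁, hs0, hs1, hle, hW, hWn, hWd, h1, p1⟩ := step s U hU hN hdim
    set U' := U ⊓ B.orthogonal W with hU'
    have hsup : W ⊔ U' = U := by
      rw [hU', inf_comm U, ← sup_inf_assoc_of_le _ hle, (isCompl_orth hG hWn).sup_eq_top, top_inf_eq]
    have hd' : finrank F U' = a * (s + 1 - s₁) := by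
      have h := Submodule.finrank_sup_add_finrank_inf_eq W U'
      rw [hsup, ((isCompl_orth hG hWn).disjoint.mono_right inf_le_right).eq_bot, finrank_bot, hWd, hdim] at h
      rw [Nat.mul_sub]
      omega
    have hN' : Alt.NDon B U' := by
      intro x hx h0
      obtain ⟨z, hz, hne⟩ := hN x hx.1 h0
      rw [← hsup] at hz
      obtain ⟨s, hs, t, ht, rfl⟩ := Submodule.mem_sup.1 hz
      exact ⟨t, ht, by rwa [map_add, (mem_orth hG).1 hx.2 s hs, zero_add] at hne⟩
    obtain ⟨D₂, h2, p2⟩ := ih (s + 1 - s₁) (by omega) U' (hU.inf (inv_orth hG hW)) hN' hd'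
    refine OrthDec.append hG (Nat.add_sub_cancel' hs1) hle inf_le_left ?_ h1 h2 p1 p2
    intro x hx
    rw [mem_orth hG]
    intro y hy
    rw [hG.skew y x, (mem_orth hG).1 hy.2 x hx, neg_zero]

/-- The step given by one invariant summand. -/
theorem step_single (hG : Good B φ) {a s : ℕ} {U W : Submodule F V} (hle : W ≤ U) (hW : Inv φ W)
    (hN : Alt.NDon B W) (hd : finrank F W = a) :
    ∃ (s₁ : ℕ) (W : Submodule F V) (D : Fin s₁ → Submodule F V), 0 < s₁ ∧ s₁ ≤ s + 1 ∧ W ≤ U ∧ Inv φ W ∧
      Alt.NDon B W ∧ finrank F W = a * s₁ ∧ OrthDec B W a D ∧ Permuted φ D :=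
  ⟨1, W, fun _ => W, one_pos, by omega, hle, hW, hN, by rw [hd, mul_one], hd ▸ (single_dec hG hW hN).1,
    (single_dec hG hW hN).2⟩

/-- Bounds forced by a permuted decomposition. -/
theorem moved_bounds [Fintype F] (hG : Good B φ) {r : ℕ} [Fact r.Prime] (har : φ ^ r = 1) {a t : ℕ}
    (ha : 0 < a) (hdim : finrank F V = a * t) {D : Fin t → Submodule F V} (h : OrthDec B ⊤ a D)
    {σ : Equiv.Perm (Fin t)} (hσ : ∀ j, (D j).map φ = D (σ j)) {j : Fin t} (hj : σ j ≠ j) :
    a ≤ finrank F (fx φ) ∧ (r - 1) * a ≤ finrank F (mv φ) := by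
  classical
  have hi := h.indep hG
  have hs : iSup D = ⊤ := Submodule.eq_top_of_finrank_eq (le_antisymm (Submodule.finrank_le _) (by
    calc finrank F V = ∑ j, finrank F (D j) := by simp [h.dim, hdim, mul_comm]
      _ ≤ _ := h.sum_finrank_le (fun j => le_rfl) fun j => le_iSup D j))
  have hne : ∀ k, D k ≠ ⊥ := fun k hk => by
    have := h.dim k
    rw [hk, finrank_bot] at this
    omega
  have hr := (Fact.out : r.Prime)
  have hσr := Elusive.perm_pow_eq_one hi hne hσ one_ne_zero (r := r) (by rw [har, one_smul])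
  constructor
  · refine le_of_eq_of_le (h.dim j).symm (LinearMap.finrank_le_finrank_of_injective
      (f := LinearMap.codRestrict (fx φ) ((∑ i ∈ Finset.range r, φ ^ i).comp (D j).subtype) fun v => ?_) ?_)
    · rw [fx, LinearMap.mem_ker, LinearMap.comp_apply, ← Module.End.mul_apply, mul_geom_sum, har, sub_self,
        LinearMap.zero_apply]
    · rw [injective_iff_map_eq_zero]
      intro v hv
      have hv' : (∑ i ∈ Finset.range r, φ ^ i) v.1 = 0 := congrArg Subtype.val hv
      rw [LinearMap.sum_apply] at hv'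
      exact Subtype.ext (Elusive.eq_zero_of_orbit_sum hi hs hσ hr hσr hj v.2 (fun _ => 1) rfl (by simpa using hv'))
  · obtain ⟨P, hP⟩ := Decomp.exists_proj hi hs
    set f : (Fin (r - 1) → D j) →ₗ[F] mv φ := LinearMap.codRestrict (mv φ)
      (∑ i : Fin (r - 1), ((φ ^ ((i : ℕ) + 1) - 1).comp (D j).subtype).comp (LinearMap.proj i)) (fun v => by
        rw [LinearMap.sum_apply]
        refine Submodule.sum_mem _ fun i _ => ?_
        refine ⟨(∑ k ∈ Finset.range ((i : ℕ) + 1), φ ^ k) (v i : V), ?_⟩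
        rw [← Module.End.mul_apply, mul_geom_sum]
        rfl) with hf
    have hinj : Function.Injective f := by
      rw [← LinearMap.ker_eq_bot, LinearMap.ker_eq_bot']
      intro v hv
      have h1 : ∑ i : Fin (r - 1), ((φ ^ ((i : ℕ) + 1)) (v i : V) - (v i : V)) = 0 := by
        have := congrArg Subtype.val hv
        simpa [hf, LinearMap.sum_apply] using this
      funext i
      have h2 := congrArg (P ((σ ^ ((i : ℕ) + 1)) j)) h1
      rw [map_sum, map_zero, Finset.sum_eq_single i] at h2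
      · rw [map_sub, hP.self _ _ (Elusive.map_pow_perm hσ _ j ▸ Submodule.mem_map_of_mem (v i).2),
          hP.other _ j ?_ _ (v i).2, sub_zero] at h2
        · have hinjp : Function.Injective (φ ^ ((i : ℕ) + 1)) := by
            rw [Module.End.coe_pow]; exact hG.injective.iterate _
          exact Subtype.ext (hinjp (h2.trans (map_zero _).symm))
        · intro he
          have := Elusive.orbit_injOn hr hσr hj (Set.mem_Iio.2 hr.pos) (Set.mem_Iio.2 (by have := i.2; omega : (i : ℕ) + 1 < r))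
            (by simpa using he)
          omega
      · intro l _ hl
        have hlr : (l : ℕ) + 1 < r := by have := l.2; omega
        have hir : (i : ℕ) + 1 < r := by have := i.2; omega
        rw [map_sub, hP.other _ _ ?_ _ (Elusive.map_pow_perm hσ _ j ▸ Submodule.mem_map_of_mem (v l).2),
          hP.other _ j ?_ _ (v l).2, sub_zero]
        · intro he
          have := Elusive.orbit_injOn hr hσr hj (Set.mem_Iio.2 hr.pos) (Set.mem_Iio.2 hir) (by simpa using he)
          omega
        · intro he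
          have := Elusive.orbit_injOn hr hσr hj (Set.mem_Iio.2 hlr) (Set.mem_Iio.2 hir) he
          exact hl (Fin.ext (by omega))
      · exact fun hn => absurd (Finset.mem_univ i) hn
    have := LinearMap.finrank_le_finrank_of_injective hinj
    simpa [Module.finrank_pi_fintype, h.dim] using this

end Cfsg.Agent.Classical.SympElem
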