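import Cfsg.Agent.Classical.SympElem.Count
import Cfsg.Agent.Classical.SympElem.Decomp

/-!
# Prime divisors of the number of orthogonal decompositions
-/

set_option autoImplicit false

namespace Cfsg.Agent.Classical.SympElem

open Module Cfsg.Agent.SympConj

universe u v

variable {F : Type u} [Field F] [Fintype F] {V : Type v} [AddCommGroup V] [Module F V] [FiniteDimensional F V]
  {B : LinearMap.BilinForm F V}

theorem card_dec_mul (hG : Good B (1 : Module.End F V)) {r d h : ℕ} (hh : 0 < h)
    (hr : Nat.Prime r) (hnd : ∀ j, 1 ≤ j → j ≤ d → ¬ r ∣ pairsCard (Fintype.card F) j) :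
    ∀ t, h * t ≤ d → ∃ Den Num, ¬ r ∣ Num ∧ ∀ U : Submodule F V, Alt.NDon B U → finrank F U = 2 * h * t →
      Nat.card {D : Fin t → Submodule F V // OrthDec B U (2 * h) D} * Den = Num := by
  classical
  haveI : Finite V := Module.finite_of_finite F
  intro t
  induction t with
  | zero =>
    intro _
    refine ⟨1, 1, hr.not_dvd_one, fun U _ _ => ?_⟩
    rw [mul_one, Nat.card_eq_one_iff_unique]
    exact ⟨⟨fun a b => Subtype.ext (funext fun j => j.elim0)⟩,
      ⟨⟨fun j => j.elim0, ⟨fun j => j.elim0, fun j => j.elim0, fun j => j.elim0, fun j => j.elim0⟩⟩⟩⟩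
  | succ t ih =>
    intro htd
    obtain ⟨Den, Num, hNum, hcard⟩ := ih (by rw [Nat.mul_succ] at htd; omega)
    refine ⟨(∏ j ∈ Finset.range h, pairsCard (Fintype.card F) (h - j)) * Den,
      (∏ j ∈ Finset.range h, pairsCard (Fintype.card F) (h * (t + 1) - j)) * Num, ?_, fun U hU hdim => ?_⟩
    · intro hdvd
      rcases hr.dvd_mul.1 hdvd with h1 | h1
      · obtain ⟨j, hj, hj'⟩ := (hr.prime.dvd_finsetProd_iff _).1 h1
        have := Finset.mem_range.1 hj
        have h2 : h ≤ h * (t + 1) := Nat.le_mul_of_pos_right _ (Nat.succ_pos t)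
        exact hnd _ (by omega) (by omega) hj'
      · exact hNum h1
    let Big := {W : Submodule F V // W ≤ U ∧ Alt.NDon B W ∧ finrank F W = 2 * h}
    have hsup : ∀ W : Submodule F V, W ≤ U → Alt.NDon B W → W ⊔ (U ⊓ B.orthogonal W) = U := fun W hle hn => by
      rw [inf_comm U, ← sup_inf_assoc_of_le _ hle, (isCompl_orth hG hn).sup_eq_top, top_inf_eq]
    let f : {D : Fin (t + 1) → Submodule F V // OrthDec B U (2 * h) D} →
        Σ W : Big, {D : Fin t → Submodule F V // OrthDec B (U ⊓ B.orthogonal W.1) (2 * h) D} := fun D =>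
      ⟨⟨D.1 0, D.2.le 0, D.2.nd 0, D.2.dim 0⟩, ⟨fun j => D.1 j.succ,
        ⟨fun j => le_inf (D.2.le _) fun x hx => (mem_orth hG).2 fun w hw =>
          D.2.orth _ _ (Fin.succ_ne_zero j) x hx w hw,
         fun j => D.2.nd _, fun j => D.2.dim _,
         fun j j' hne => D.2.orth _ _ (fun h => hne (Fin.succ_inj.1 h))⟩⟩⟩
    have hf : Function.Bijective f := by
      constructor
      · intro D D' e
        have e1 := congrArg (fun y : Σ W : Big, {D : Fin t → Submodule F V //
          OrthDec B (U ⊓ B.orthogonal W.1) (2 * h) D} => (y.1.1, y.2.1)) e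
        simp only [f, Prod.mk.injEq] at e1
        exact Subtype.ext (funext fun j => Fin.cases e1.1 (fun k => congrFun e1.2 k) j)
      · rintro ⟨⟨W, hle, hn, hd⟩, ⟨D', hD'⟩⟩
        refine ⟨⟨Fin.cons W D', ⟨fun j => ?_, fun j => ?_, fun j => ?_, fun j j' hne u hu v hv => ?_⟩⟩, rfl⟩
        · refine Fin.cases hle (fun k => ?_) j
          simpa using (hD'.le k).trans inf_le_left
        · refine Fin.cases hn (fun k => ?_) j
          simpa using hD'.nd k
        · refine Fin.cases hd (fun k => ?_) j
          rw [Fin.cons_succ]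
          exact hD'.dim k
        · revert hne hu hv
          refine Fin.cases ?_ (fun k => ?_) j <;> refine Fin.cases ?_ (fun k' => ?_) j' <;> intro hne hu hv
          · exact absurd rfl hne
          · simp only [Fin.cons_zero, Fin.cons_succ] at hu hv
            rw [hG.skew v u, (mem_orth hG).1 (hD'.le k' hv).2 u hu, neg_zero]
          · simp only [Fin.cons_zero, Fin.cons_succ] at hu hv
            exact (mem_orth hG).1 (hD'.le k hu).2 v hv
          · simp only [Fin.cons_succ] at hu hv
            exact hD'.orth k k' (fun h => hne (by rw [h])) u hu v hv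
    haveI : Fintype Big := Fintype.ofFinite _
    rw [Nat.card_eq_of_bijective f hf, Nat.card_sigma]
    have hin : ∀ W : Big, Nat.card {D : Fin t → Submodule F V // OrthDec B (U ⊓ B.orthogonal W.1) (2 * h) D} * Den = Num := by
      rintro ⟨W, hle, hn, hd⟩
      refine hcard _ (fun x hx h0 => ?_) ?_
      · obtain ⟨z, hz, hne⟩ := hU x hx.1 h0
        rw [← hsup W hle hn] at hz
        obtain ⟨s, hs, t, ht, rfl⟩ := Submodule.mem_sup.1 hz
        exact ⟨t, ht, by rwa [map_add, (mem_orth hG).1 hx.2 s hs, zero_add] at hne⟩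
      · show finrank F (U ⊓ B.orthogonal W : Submodule F V) = 2 * h * t
        have h1 := Submodule.finrank_sup_add_finrank_inf_eq W (U ⊓ B.orthogonal W)
        rw [hsup W hle hn, ((isCompl_orth hG hn).disjoint.mono_right inf_le_right).eq_bot, finrank_bot, hd, hdim,
          Nat.mul_succ] at h1
        omega
    have hBig := card_nd_mul (F := F) hG.alt hG.sep h (h * (t + 1)) U hU (by rw [hdim]; ring)
      (Nat.le_mul_of_pos_right _ (Nat.succ_pos t))
    rw [mul_comm (∏ j ∈ Finset.range h, _) Den, ← mul_assoc, Finset.sum_mul, Finset.sum_congr rfl fun W _ => hin W,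
      Finset.sum_const, Finset.card_univ, ← Nat.card_eq_fintype_card, smul_eq_mul, mul_right_comm]
    rw [show Nat.card Big * ∏ j ∈ Finset.range h, pairsCard (Fintype.card F) (h - j) = _ from hBig]

theorem factorial_dvd_decomps (hG : Good B (1 : Module.End F V)) {a t : ℕ} (ha : 0 < a) (U : Submodule F V) :
    t.factorial ∣ Nat.card {D : Fin t → Submodule F V // OrthDec B U a D} := by
  classical
  haveI : Finite V := Module.finite_of_finite F
  let X := {D : Fin t → Submodule F V // OrthDec B U a D}
  haveI : Fintype X := Fintype.ofFinite _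
  haveI : Fintype (Submodule F V) := Fintype.ofFinite _
  have hinj : ∀ D : X, Function.Injective D.1 := fun D j j' hjj => by
    by_contra hne
    have hne' : D.1 j ≠ ⊥ := fun h => by have := D.2.dim j; rw [h, finrank_bot] at this; omega
    obtain ⟨x, hx, h0⟩ := Submodule.exists_mem_ne_zero_of_ne_bot hne'
    obtain ⟨z, hz, hne''⟩ := D.2.nd j x hx h0
    exact hne'' (D.2.orth j j' hne x hx z (hjj ▸ hz))
  let img : X → Finset (Submodule F V) := fun D => Finset.univ.image D.1
  rw [Nat.card_eq_fintype_card, ← Finset.card_univ, Finset.card_eq_sum_card_image img]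
  refine Finset.dvd_sum fun S hS => ?_
  obtain ⟨D₀, -, rfl⟩ := Finset.mem_image.1 hS
  have hX : ∀ σ : Equiv.Perm (Fin t), OrthDec B U a (fun j => D₀.1 (σ j)) := fun σ =>
    ⟨fun j => D₀.2.le _, fun j => D₀.2.nd _, fun j => D₀.2.dim _,
      fun j j' hne => D₀.2.orth _ _ (σ.injective.ne hne)⟩
  refine dvd_of_eq ?_
  suffices hb : (Finset.univ : Finset (Equiv.Perm (Fin t))).card = _ by
    rwa [Finset.card_univ, Fintype.card_perm, Fintype.card_fin] at hb
  refine (Finset.card_bij (fun (σ : Equiv.Perm (Fin t)) _ => (⟨fun j => D₀.1 (σ j), hX σ⟩ : X)) ?_ ?_ ?_)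
  · intro σ _
    refine Finset.mem_filter.2 ⟨Finset.mem_univ _, ?_⟩
    show Finset.univ.image (fun j => D₀.1 (σ j)) = Finset.univ.image D₀.1
    ext W
    simp only [Finset.mem_image, Finset.mem_univ, true_and]
    exact ⟨fun ⟨j, hj⟩ => ⟨σ j, hj⟩, fun ⟨j, hj⟩ => ⟨σ.symm j, by simpa using hj⟩⟩
  · intro σ _ τ _ h
    exact Equiv.ext fun j => hinj D₀ (congrFun (congrArg Subtype.val h) j)
  · intro D hD
    have h1 : ∀ j, ∃ k, D₀.1 k = D.1 j := fun j => by
      have : D.1 j ∈ Finset.univ.image D.1 := Finset.mem_image_of_mem _ (Finset.mem_univ j)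
      rw [show Finset.univ.image D.1 = Finset.univ.image D₀.1 from (Finset.mem_filter.1 hD).2] at this
      obtain ⟨k, -, hk⟩ := Finset.mem_image.1 this
      exact ⟨k, hk⟩
    choose g hg using h1
    have hg' : Function.Injective g := fun x y hxy => hinj D (by rw [← hg x, ← hg y, hxy])
    refine ⟨Equiv.ofBijective g (Finite.injective_iff_bijective.1 hg'), Finset.mem_univ _, Subtype.ext (funext fun j => ?_)⟩
    exact hg j

end Cfsg.Agent.Classical.SympElem
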