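import Cfsg.Agent.Classical.SympElem.Ti
import Cfsg.Agent.Classical.Elusive.Linear

/-!
# Non-degenerate invariant subspaces of semisimple isometries, and elements of prime order
-/

set_option autoImplicit false

namespace Cfsg.Agent.Classical.SympElem

open Module Polynomial Cfsg.Agent.SympConj Cfsg.Agent.MatModule Cfsg.Agent.Classical.Elusive

universe u v

variable {F : Type u} [Field F] {V : Type v} [AddCommGroup V] [Module F V] [FiniteDimensional F V]
  {B : LinearMap.BilinForm F V} {a : Module.End F V}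

/-- Repeated splitting off of non-degenerate invariant subspaces of one dimension. -/
theorem exists_nd (hG : Good B a) {c : ℕ}
    (step : ∀ U : Submodule F V, Inv a U → Alt.NDon B U → U ≠ ⊥ →
      ∃ W : Submodule F V, W ≤ U ∧ Inv a W ∧ Alt.NDon B W ∧ finrank F W = c) :
    ∀ A, c * A ≤ finrank F V → ∃ W : Submodule F V, Inv a W ∧ Alt.NDon B W ∧ finrank F W = c * A := by
  intro A
  induction A with
  | zero => exact fun _ => ⟨⊥, inv_bot, fun w hw h0 => absurd ((Submodule.mem_bot F).1 hw) h0, by simp⟩
  | succ A ih =>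
    intro hA
    rw [Nat.mul_succ] at hA
    obtain ⟨W, hW, hWn, hWd⟩ := ih (by omega)
    rcases Nat.eq_zero_or_pos c with rfl | hc
    · exact ⟨W, hW, hWn, by simpa using hWd⟩
    obtain ⟨W', hle, hW', hWn', hWd'⟩ := step _ (inv_orth hG hW) (ndon_orth hG hWn) (fun h => by
      have := finrank_orth hG W
      rw [h, finrank_bot, hWd] at this
      omega)
    obtain ⟨h1, h2⟩ := ndon_sup hG hWn' hWn hle
    exact ⟨W' ⊔ W, hW'.sup hW, h1, by rw [h2, hWd, hWd', Nat.mul_succ, add_comm]⟩

theorem step_of_step {c : ℕ} {P : ∀ (U : Submodule F V), Module.End F U → Prop}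
    (h : ∀ (U : Submodule F V) (hU : Inv a U), Alt.NDon B U → U ≠ ⊥ → P U (a.restrict hU) →
      ∃ W : Submodule F U, Inv (a.restrict hU) W ∧ Alt.NDon (B.restrict U) W ∧ finrank F W = c)
    (hP : ∀ (U : Submodule F V) (hU : Inv a U), P U (a.restrict hU)) :
    ∀ U : Submodule F V, Inv a U → Alt.NDon B U → U ≠ ⊥ →
      ∃ W : Submodule F V, W ≤ U ∧ Inv a W ∧ Alt.NDon B W ∧ finrank F W = c := by
  intro U hU hN h0
  obtain ⟨W, h1, h2, h3⟩ := h U hU hN h0 (hP U hU)
  exact ⟨W.map U.subtype, lift_le W, inv_lift h1, ndon_lift h2, (finrank_lift W).trans h3⟩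

theorem finrank_pos_of_ne {U : Submodule F V} (h : U ≠ ⊥) : 0 < finrank F U :=
  Nat.pos_of_ne_zero fun h0 => h (Submodule.finrank_eq_zero.1 h0)

/-- An irreducible totally isotropic invariant subspace extends to a non-degenerate one of twice the dimension. -/
theorem exists_pair (hG : Good B a) {g : F[X]} (hg : Squarefree g) (hag : aeval a g = 0)
    {W : Submodule F V} (hW : Inv a W) (hti : TI B W) :
    ∃ U : Submodule F V, Inv a U ∧ Alt.NDon B U ∧ finrank F U = 2 * finrank F W := by
  obtain ⟨C, hC, hWC⟩ := exists_compl hg hag (inv_orth hG hW)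
  have hWle : W ≤ B.orthogonal W := fun x hx => (mem_orth hG).2 fun y hy => hti x hx y hy
  have hCd : finrank F C = finrank F W := by
    have h1 := Submodule.finrank_add_eq_of_isCompl hWC
    rw [finrank_orth hG] at h1
    have := W.finrank_le
    omega
  refine ⟨W ⊔ C, hW.sup hC, fun x hx h0 => ?_, ?_⟩
  · obtain ⟨w, hw, c, hc, rfl⟩ := Submodule.mem_sup.1 hx
    by_contra hcn
    push Not at hcn
    have hc0 : c = 0 := by
      refine Submodule.disjoint_def.1 hWC.symm.disjoint c hc ((mem_orth hG).2 fun y hy => ?_)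
      have := hcn y (Submodule.mem_sup_left hy)
      rwa [map_add, LinearMap.add_apply, hti w hw y hy, zero_add] at this
    subst hc0
    rw [add_zero] at h0 hcn
    refine h0 (hG.sep w fun y => ?_)
    obtain ⟨s, hs, t, ht, rfl⟩ := Submodule.mem_sup.1 (hWC.sup_eq_top.symm ▸ Submodule.mem_top (x := y))
    rw [map_add, hcn t (Submodule.mem_sup_right ht), add_zero, hG.skew, (mem_orth hG).1 hs w hw, neg_zero]
  · have h1 := Submodule.finrank_sup_add_finrank_inf_eq W C
    rw [(hWC.disjoint.mono_left hWle).eq_bot, finrank_bot, hCd] at h1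
    omega

theorem exists_nd_odd [Fintype F] (hG : Good B a) {g : F[X]} (hg : Squarefree g) (hag : aeval a g = 0)
    {i : ℕ} (hdeg : AllDeg g i) (hi : Odd i) :
    ∀ A, 2 * i * A ≤ finrank F V → ∃ W : Submodule F V, Inv a W ∧ Alt.NDon B W ∧ finrank F W = 2 * i * A := by
  refine exists_nd hG (step_of_step (P := fun U φ => aeval φ g = 0) (fun U hU hN h0 hφ => ?_)
    fun U hU => aeval_restrict hag hU)
  have hGU := good_restrict hG hU hN
  obtain ⟨W, hW, hti, hd⟩ := exists_ti_block hGU hg hφ hdeg (Or.inl ⟨hi, finrank_pos_of_ne h0⟩)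
  obtain ⟨W', h1, h2, h3⟩ := exists_pair hGU hg hφ hW hti
  exact ⟨W', h1, h2, by rw [h3, hd]⟩

theorem form_aeval (hG : Good B a) {b : Module.End F V} (hb : a * b = 1) (f : F[X]) :
    ∀ x y, B (aeval a f x) y = B x (aeval b f y) := by
  induction f using Polynomial.induction_on' with
  | add s t hs ht => intro x y; simp [map_add, hs, ht]
  | monomial k c =>
    induction k with
    | zero =>
      intro x y
      simp [Module.algebraMap_end_apply]
    | succ k ih =>
      intro x y
      have h1 : ∀ x y, B (a x) y = B x (b y) := fun x y => by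
        conv_lhs => rw [show y = a (b y) by rw [← Module.End.mul_apply, hb, Module.End.one_apply]]
        exact hG.pres _ _
      rw [← monomial_mul_X, map_mul (aeval a), map_mul (aeval b), aeval_X, aeval_X, Module.End.mul_apply,
        ih, h1, Module.End.mul_apply]
      congr 1
      rw [← Module.End.mul_apply, ← Module.End.mul_apply]
      congr 1
      have : Commute b (aeval b (monomial k c)) := by
        have := (Commute.all (X : F[X]) (monomial k c)).map (aeval b)
        rwa [aeval_X] at this
      exact this.eq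

theorem comp_X_pow_card [Fintype F] (f : F[X]) (j : ℕ) :
    f.comp (X ^ Fintype.card F ^ j) = f ^ Fintype.card F ^ j := by
  induction j with
  | zero => simp
  | succ j ih =>
    have h1 : f.comp (X ^ Fintype.card F) = f ^ Fintype.card F := by
      rw [← expand_eq_comp_X_pow, FiniteField.expand_card]
    calc f.comp (X ^ Fintype.card F ^ (j + 1)) = (f.comp (X ^ Fintype.card F ^ j)).comp (X ^ Fintype.card F) := by
          rw [comp_assoc, pow_comp, X_comp, ← pow_mul, pow_succ, mul_comm]
      _ = f ^ Fintype.card F ^ (j + 1) := by rw [ih, pow_comp, h1, ← pow_mul, ← pow_succ']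

theorem aeval_pow_card [Fintype F] (f : F[X]) (j : ℕ) :
    aeval (a ^ Fintype.card F ^ j) f = (aeval a f) ^ Fintype.card F ^ j := by
  rw [← map_pow, ← comp_X_pow_card, aeval_comp, map_pow, aeval_X]

/-- The kernels of different irreducible polynomials are orthogonal when inversion is a Frobenius power. -/
theorem kernels_orth [Fintype F] (hG : Good B a) {j : ℕ} (hj : a * a ^ Fintype.card F ^ j = 1)
    {f h : F[X]} (hcop : IsCoprime f h) {u v : V} (hu : aeval a f u = 0) (hv : aeval a h v = 0) :
    B u v = 0 := by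
  have hp : 0 < Fintype.card F ^ j := pow_pos Fintype.card_pos _
  obtain ⟨s, t, hst⟩ := hcop.pow_left (m := Fintype.card F ^ j)
  have h1 : v = aeval (a ^ Fintype.card F ^ j) f (aeval a s v) := by
    rw [aeval_pow_card, ← map_pow, ← Module.End.mul_apply, ← map_mul, mul_comm,
      show s * f ^ Fintype.card F ^ j = 1 - t * h by rw [← hst]; ring, map_sub, map_one, map_mul,
      LinearMap.sub_apply, Module.End.one_apply, Module.End.mul_apply, hv, map_zero, sub_zero]
  rw [h1, ← form_aeval hG hj, hu, map_zero, LinearMap.zero_apply]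

theorem step_even [Fintype F] (hG : Good B a) {g : F[X]} (hg : Squarefree g) (hag : aeval a g = 0)
    {i : ℕ} (hdeg : AllDeg g i) {j : ℕ} (hj : a * a ^ Fintype.card F ^ j = 1)
    (hsq : ∀ v, a (a v) = v → v = 0) (hpos : 0 < finrank F V) :
    ∃ W : Submodule F V, Inv a W ∧ Alt.NDon B W ∧ finrank F W = i := by
  classical
  obtain ⟨ι, hι, s, hs, hirr, Φ, hΦ⟩ := exists_rootMul a hg hag
  have hdvd : ∀ k, s k ∣ g := fun k => dvd_of_aeval hΦ hag k
  by_cases hex : ∃ k u, aeval a (s k) u = 0 ∧ B (a u) u ≠ 0
  · obtain ⟨k, u, hu, hne⟩ := hex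
    have hu0 : u ≠ 0 := fun h => hne (by simp [h])
    obtain ⟨hinv, hfin, hsimple⟩ := cyc_props (hs k) (hirr k) hu0 hu
    have hdi := hdeg _ (hs k) (hirr k) (hdvd k)
    refine ⟨cyc a u (s k).natDegree, hinv, fun x hx h0 => ?_, by rw [hfin, hdi]⟩
    by_contra hcn
    push Not at hcn
    set W := cyc a u (s k).natDegree
    have heq : W ⊓ B.orthogonal W = W := hsimple _ (hinv.inf (inv_orth hG hinv)) inf_le_left (fun h => h0 (by
      rw [← Submodule.mem_bot F, ← h]
      exact ⟨hx, (mem_orth hG).2 hcn⟩))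
    have huW : u ∈ W := Submodule.subset_span ⟨⟨0, (hirr k).natDegree_pos⟩, by simp⟩
    have hu' : a u ∈ B.orthogonal W := by
      have h := hinv u huW
      rw [← heq] at h
      exact h.2
    exact hne ((mem_orth hG).1 hu' u huW)
  · exfalso
    push Not at hex
    have hcomp : ∀ (v : V) (k : ι), aeval a (s k) (Φ.symm (Pi.single k (Φ v k))) = 0 := by
      intro v k
      refine Φ.map_eq_zero_iff.1 (funext fun l => ?_)
      rw [aeval_apply hΦ, LinearEquiv.apply_symm_apply, Pi.zero_apply]
      rcases eq_or_ne l k with rfl | hl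
      · rw [AdjoinRoot.mk_self, zero_mul]
      · rw [Pi.single_eq_of_ne hl, mul_zero]
    have hvsum : ∀ v, v = ∑ k, Φ.symm (Pi.single k (Φ v k)) := fun v => by
      rw [← map_sum, Finset.univ_sum_single, LinearEquiv.symm_apply_apply]
    obtain ⟨k, -, -⟩ := Finset.exists_ne_zero_of_sum_ne_zero (finrank_eq_sum Φ hs ▸ hpos.ne')
    set u : V := Φ.symm (Pi.single k 1) with hu_def
    have hu : aeval a (s k) u = 0 := by
      refine Φ.map_eq_zero_iff.1 (funext fun l => ?_)
      rw [aeval_apply hΦ, hu_def, LinearEquiv.apply_symm_apply, Pi.zero_apply]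
      rcases eq_or_ne l k with rfl | hl
      · rw [AdjoinRoot.mk_self, zero_mul]
      · rw [Pi.single_eq_of_ne hl, mul_zero]
    have hu0 : u ≠ 0 := fun h => by
      have := congrFun (congrArg Φ h) k
      rw [hu_def, LinearEquiv.apply_symm_apply, map_zero, Pi.single_eq_same, Pi.zero_apply] at this
      haveI hF : Fact (Irreducible (s k)) := ⟨hirr k⟩
      exact one_ne_zero this
    refine hu0 (hsq u (sub_eq_zero.1 (hG.sep _ fun z => ?_)))
    obtain ⟨v, rfl⟩ := LinearMap.injective_iff_surjective.1 hG.injective z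
    rw [map_sub, LinearMap.sub_apply, hG.pres]
    rw [hvsum v, map_sum, map_sum, map_sum, ← Finset.sum_sub_distrib]
    refine Finset.sum_eq_zero fun l _ => ?_
    set w := Φ.symm (Pi.single l (Φ v l)) with hw_def
    have hw : aeval a (s l) w = 0 := hcomp v l
    rcases eq_or_ne (s k) (s l) with hkl | hkl
    · have h3 := hex k (u + w) (by rw [map_add, hu, zero_add, hkl, hw])
      simp only [map_add, LinearMap.add_apply, hex k u hu, hex l w hw, zero_add, add_zero] at h3
      rw [hG.skew (a w) u]
      linear_combination h3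
    · have hcop : IsCoprime (s k) (s l) := (hirr k).coprime_iff_not_dvd.2 fun hd => hkl
        (eq_of_monic_of_associated (hs k) (hs l) ((hirr k).associated_of_dvd (hirr l) hd))
      have hau : aeval a (s k) (a u) = 0 := by
        refine Φ.map_eq_zero_iff.1 ?_
        funext t
        rw [aeval_apply hΦ, hΦ, rootMul_apply, ← mul_assoc, mul_comm (AdjoinRoot.mk _ _), mul_assoc,
          ← aeval_apply hΦ, hu, map_zero, Pi.zero_apply, mul_zero]
      have haw : aeval a (s l) (a w) = 0 := by
        refine Φ.map_eq_zero_iff.1 ?_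
        funext t
        rw [aeval_apply hΦ, hΦ, rootMul_apply, ← mul_assoc, mul_comm (AdjoinRoot.mk _ _), mul_assoc,
          ← aeval_apply hΦ, hw, map_zero, Pi.zero_apply, mul_zero]
      rw [kernels_orth hG hj hcop hau hw, kernels_orth hG hj hcop hu haw, sub_zero]

theorem exists_nd_even [Fintype F] (hG : Good B a) {g : F[X]} (hg : Squarefree g) (hag : aeval a g = 0)
    {i : ℕ} (hdeg : AllDeg g i) {j : ℕ} (hj : a * a ^ Fintype.card F ^ j = 1)
    (hsq : ∀ v, a (a v) = v → v = 0) :
    ∀ A, i * A ≤ finrank F V → ∃ W : Submodule F V, Inv a W ∧ Alt.NDon B W ∧ finrank F W = i * A := by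
  refine exists_nd hG (step_of_step
    (P := fun U φ => aeval φ g = 0 ∧ φ * φ ^ Fintype.card F ^ j = 1 ∧ ∀ v, φ (φ v) = v → v = 0)
    (fun U hU hN h0 hφ => step_even (good_restrict hG hU hN) hg hφ.1 hdeg hφ.2.1 hφ.2.2 (finrank_pos_of_ne h0))
    fun U hU => ⟨aeval_restrict hag hU, ?_, fun v hv => Subtype.ext (hsq v (congrArg Subtype.val hv))⟩)
  refine LinearMap.ext fun v => Subtype.ext ?_
  have hbk : ∀ (k : ℕ) (x : U), (((a.restrict hU) ^ k) x : V) = (a ^ k) x := by
    intro k
    induction k with
    | zero => intro x; rfl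
    | succ k ih =>
        intro x
        rw [pow_succ', pow_succ', Module.End.mul_apply, Module.End.mul_apply, ← ih]
        rfl
  show a (((a.restrict hU) ^ Fintype.card F ^ j) v : V) = (v : V)
  rw [hbk]
  exact LinearMap.congr_fun hj (v : V)

end Cfsg.Agent.Classical.SympElem
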