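import Cfsg.Agent.Classical.SympElem.Nondeg
import Cfsg.Agent.MatModule.LargeSylow

/-!
# Invariant totally isotropic and non-degenerate subspaces of isometries of prime order
-/

set_option autoImplicit false

namespace Cfsg.Agent.Classical.SympElem

open Module Polynomial Cfsg.Agent.SympConj Cfsg.Agent.MatModule Cfsg.Agent.Classical.Elusive

universe u v

variable {F : Type u} [Field F] [Fintype F] {V : Type v} [AddCommGroup V] [Module F V] [FiniteDimensional F V]
  {B : LinearMap.BilinForm F V} {a : Module.End F V} {r : ℕ} [Fact r.Prime]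

/-- The fixed space. -/
abbrev fx (a : Module.End F V) : Submodule F V := LinearMap.ker (a - 1)

/-- The moved space. -/
abbrev mv (a : Module.End F V) : Submodule F V := LinearMap.range (a - 1)

omit [Fintype F] [FiniteDimensional F V] in
theorem inv_fx : Inv a (fx a) := inv_ker ((Commute.refl a).sub_left (Commute.one_left a))

omit [Fintype F] [FiniteDimensional F V] in
theorem inv_mv : Inv a (mv a) := inv_range ((Commute.refl a).sub_left (Commute.one_left a))

omit [Fintype F] [FiniteDimensional F V] in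
theorem fx_apply {x : V} (hx : x ∈ fx a) : a x = x := by
  rw [fx, LinearMap.mem_ker, LinearMap.sub_apply, Module.End.one_apply, sub_eq_zero] at hx
  exact hx

omit [Fintype F] [FiniteDimensional F V] in
theorem mem_fx {x : V} (hx : a x = x) : x ∈ fx a := by
  rw [fx, LinearMap.mem_ker, LinearMap.sub_apply, Module.End.one_apply, hx, sub_self]

omit [Fintype F] [Fact r.Prime] [FiniteDimensional F V] in
theorem inv_of_le_fx {W : Submodule F V} (h : W ≤ fx a) : Inv a W := fun w hw => by
  rw [fx_apply (h hw)]; exact hw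

theorem poly_facts (hr : (r : F) ≠ 0) :
    Squarefree (cyclotomic r F) ∧ AllDeg (cyclotomic r F) (orderOf (Fintype.card F : ZMod r)) ∧
      (cyclotomic r F).natDegree = r - 1 ∧ 0 < orderOf (Fintype.card F : ZMod r) ∧
      orderOf (Fintype.card F : ZMod r) ∣ r - 1 := by
  have hp := (Fact.out : r.Prime)
  have hdvd : cyclotomic r F ∣ X ^ r - C ((1 : F) ^ r) := by
    rw [one_pow, map_one, ← cyclotomic_prime_mul_X_sub_one F r]
    exact dvd_mul_right _ _
  refine ⟨(squarefree_pow_sub hr (pow_ne_zero r one_ne_zero)).squarefree_of_dvd hdvd,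
    fun f hf hirr hfd => natDegree_factor hf hirr one_ne_zero (hfd.trans hdvd) ?_,
    by rw [natDegree_cyclotomic, Nat.totient_prime hp], order_pos_of_cast hr, ?_⟩
  · rintro rfl
    have h2 := eval_eq_zero_of_dvd_of_eval_eq_zero hfd (x := (1 : F)) (by simp)
    rw [eval_one_cyclotomic_prime] at h2
    exact hr h2
  · refine ZMod.orderOf_dvd_card_sub_one fun h => ?_
    have h0 := order_pos_of_cast (F := F) hr
    rw [h] at h0
    haveI : Nontrivial (ZMod r) := by haveI := Fact.mk hp.one_lt; infer_instance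
    rw [orderOf_zero] at h0
    exact lt_irrefl _ h0

omit [Fact r.Prime] [Fintype F] in
theorem aeval_mv [hr' : Fact r.Prime] (har : a ^ r = 1) :
    aeval (a.restrict (inv_mv (a := a))) (cyclotomic r F) = 0 := by
  refine LinearMap.ext fun x => Subtype.ext ?_
  obtain ⟨y, hy⟩ := x.2
  have hbk : ∀ (k : ℕ) (z : mv a), (((a.restrict (inv_mv (a := a))) ^ k) z : V) = (a ^ k) z := by
    intro k
    induction k with
    | zero => intro z; rfl
    | succ k ih =>
        intro z
        rw [pow_succ', pow_succ', Module.End.mul_apply, Module.End.mul_apply, ← ih]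
        rfl
  rw [cyclotomic_prime F r, map_sum, LinearMap.sum_apply, Submodule.coe_sum, LinearMap.zero_apply,
    Submodule.coe_zero]
  simp only [map_pow, aeval_X, hbk, ← hy]
  rw [← LinearMap.sum_apply, ← Module.End.mul_apply, geom_sum_mul, har, sub_self, LinearMap.zero_apply]

theorem dvd_mv (hG : Good B a) (hr : (r : F) ≠ 0) (har : a ^ r = 1) :
    orderOf (Fintype.card F : ZMod r) ∣ finrank F (mv a) :=
  (blocks (poly_facts hr).1 (aeval_mv har) (poly_facts hr).2.1).1

omit [Fact r.Prime] [Fintype F] in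
theorem finrank_fx_add (hG : Good B a) : finrank F (fx a) + finrank F (mv a) = finrank F V := by
  rw [add_comm]
  exact (a - 1).finrank_range_add_finrank_ker

/-- An invariant subspace is the sum of its fixed and moved parts. -/
theorem split_inv (hG : Good B a) (hr : (r : F) ≠ 0) (har : a ^ r = 1) {W : Submodule F V} (hW : Inv a W) :
    W ⊓ fx a ⊔ W ⊓ mv a = W ∧
      finrank F (W ⊓ fx a : Submodule F V) + finrank F (W ⊓ mv a : Submodule F V) = finrank F W := by
  have hd : Disjoint (fx a) (mv a) := (fixed_decomp hG hr har).1.disjoint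
  have hle : W ⊓ fx a ⊔ W ⊓ mv a ≤ W := sup_le inf_le_left inf_le_left
  have h1 := Submodule.finrank_sup_add_finrank_inf_eq (W ⊓ fx a) (W ⊓ mv a)
  rw [(hd.mono inf_le_right inf_le_right).eq_bot, finrank_bot, add_zero] at h1
  have h2 := ((a - 1).domRestrict W).finrank_range_add_finrank_ker
  have h3 : finrank F (LinearMap.range ((a - 1).domRestrict W)) ≤ finrank F (W ⊓ mv a : Submodule F V) := by
    refine Submodule.finrank_mono ?_
    rintro _ ⟨w, rfl⟩
    refine ⟨?_, ⟨w, rfl⟩⟩
    show (a - 1) (w : V) ∈ W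
    rw [LinearMap.sub_apply, Module.End.one_apply]
    exact W.sub_mem (hW _ w.2) w.2
  have h4 : finrank F (LinearMap.ker ((a - 1).domRestrict W)) ≤ finrank F (W ⊓ fx a : Submodule F V) := by
    rw [← finrank_lift]
    refine Submodule.finrank_mono ?_
    rintro _ ⟨w, hw, rfl⟩
    exact ⟨w.2, hw⟩
  have heq : W ⊓ fx a ⊔ W ⊓ mv a = W := Submodule.eq_of_le_of_finrank_le hle (by omega)
  rw [heq] at h1
  exact ⟨heq, h1.symm⟩

theorem dvd_inf_mv (hG : Good B a) (hr : (r : F) ≠ 0) (har : a ^ r = 1) {W : Submodule F V} (hW : Inv a W) :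
    orderOf (Fintype.card F : ZMod r) ∣ finrank F (W ⊓ mv a : Submodule F V) := by
  have hWinv : Inv (a.restrict (inv_mv (a := a))) (W.comap (mv a).subtype) := fun w hw => hW _ hw
  have h := (blocks (poly_facts hr).1 (aeval_restrict (aeval_mv har) hWinv) (poly_facts hr).2.1).1
  rwa [show finrank F (W ⊓ mv a : Submodule F V) = finrank F (W.comap (mv a).subtype) by
    rw [← finrank_lift, Submodule.map_comap_subtype, inf_comm]]

theorem ti_bound (hG : Good B a) (hr : (r : F) ≠ 0) (har : a ^ r = 1) {W : Submodule F V} (hW : TI B W) :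
    2 * finrank F (W ⊓ fx a : Submodule F V) ≤ finrank F (fx a) :=
  two_mul_le_of_ti hG (fixed_decomp hG hr har).2.2.1 (fun u hu v hv => hW u hu.1 v hv.1) inf_le_right

theorem nd_parts (hG : Good B a) (hr : (r : F) ≠ 0) (har : a ^ r = 1) {W : Submodule F V} (hW : Inv a W)
    (hN : Alt.NDon B W) :
    Even (finrank F (W ⊓ fx a : Submodule F V)) ∧ Even (finrank F (W ⊓ mv a : Submodule F V)) := by
  obtain ⟨heq, -⟩ := split_inv hG hr har hW
  have horth : ∀ x ∈ fx a, ∀ y ∈ mv a, B x y = 0 := fun x hx y hy => by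
    rw [hG.skew y x, (mem_orth hG).1 ((fixed_decomp hG hr har).2.1.symm ▸ hy) x hx, neg_zero]
  refine ⟨(exists_sub hG (U := W ⊓ fx a) fun x hx h0 => ?_).1, (exists_sub hG (U := W ⊓ mv a) fun x hx h0 => ?_).1⟩
  · obtain ⟨z, hz, hne⟩ := hN x hx.1 h0
    obtain ⟨s, hs, t, ht, rfl⟩ := Submodule.mem_sup.1 (heq.symm ▸ hz)
    exact ⟨s, hs, by rwa [map_add, horth x hx.2 t ht.2, add_zero] at hne⟩
  · obtain ⟨z, hz, hne⟩ := hN x hx.1 h0
    obtain ⟨s, hs, t, ht, rfl⟩ := Submodule.mem_sup.1 (heq.symm ▸ hz)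
    exact ⟨t, ht, by rwa [map_add, hG.skew s x, horth s hs.2 x hx.2, neg_zero, zero_add] at hne⟩

theorem exists_prime_ti (hG : Good B a) (hr : (r : F) ≠ 0) (har : a ^ r = 1) {d m : ℕ}
    (hd : finrank F V = 2 * d) (hmd : m ≤ d)
    (hk : 2 * (m % orderOf (Fintype.card F : ZMod r)) ≤
      (2 * d) % (if Even (orderOf (Fintype.card F : ZMod r)) then orderOf (Fintype.card F : ZMod r)
        else 2 * orderOf (Fintype.card F : ZMod r)))
    (ht : Odd (orderOf (Fintype.card F : ZMod r)) ∨
      (r - 1) / orderOf (Fintype.card F : ZMod r) + 2 * (m / orderOf (Fintype.card F : ZMod r)) ≤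
        (2 * d) / orderOf (Fintype.card F : ZMod r)) :
    ∃ W : Submodule F V, Inv a W ∧ TI B W ∧ finrank F W = m := by
  obtain ⟨hsf, hAll, hdeg, hi0, hidvd⟩ := poly_facts (F := F) (r := r) hr
  obtain ⟨hc, horth, hNE, hNR⟩ := fixed_decomp hG hr har
  set i := orderOf (Fintype.card F : ZMod r)
  obtain ⟨N, hN⟩ : i ∣ finrank F (mv a) := dvd_mv hG hr har
  have hsum := finrank_fx_add (a := a) hG
  obtain ⟨e, he⟩ : Even (finrank F (fx a)) := (exists_sub hG hNE).1
  have hRev : Even (finrank F (mv a)) := (exists_sub hG hNR).1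
  obtain ⟨t, ht'⟩ := hidvd
  have hr2 := (Fact.out : r.Prime).two_le
  have ht1 : 1 ≤ t := Nat.pos_of_ne_zero fun h => by rw [h, mul_zero] at ht'; omega
  have hdm := Nat.mod_add_div m i
  obtain ⟨A, hA1, hA2, hA3, hA4⟩ : ∃ A, 2 * i * A ≤ i * N ∧
      (A = 0 ∨ Odd i ∨ r - 1 + 2 * i * A < i * N + 2 * i) ∧ i * A ≤ m ∧ 2 * (m - i * A) ≤ 2 * e := by
    by_cases hodd : Odd i
    · rw [if_neg (Nat.not_even_iff_odd.2 hodd), Nat.mul_mod_mul_left] at hk
      obtain ⟨P, rfl⟩ : ∃ P, N = 2 * P := by
        rw [hN, Nat.even_mul] at hRev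
        obtain ⟨P, hP⟩ := hRev.resolve_left (Nat.not_even_iff_odd.2 hodd)
        exact ⟨P, by omega⟩
      have e1 : i * (2 * P) = 2 * (i * P) := by ring
      have hed : d = e + i * P := by omega
      rw [hed, Nat.add_mul_mod_self_left] at hk
      have := Nat.mod_le e i
      refine ⟨min P (m / i), ?_, Or.inr (Or.inl hodd), ?_, ?_⟩
      · rw [mul_assoc, e1]
        exact Nat.mul_le_mul_left _ (Nat.mul_le_mul_left _ (min_le_left _ _))
      · exact (Nat.mul_le_mul_left _ (min_le_right _ _)).trans (by omega)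
      · rcases min_choice P (m / i) with h | h <;> rw [h] <;> omega
    · have heven := Nat.not_odd_iff_even.1 hodd
      have ht2 := ht.resolve_left hodd
      rw [if_pos heven] at hk
      rw [ht', Nat.mul_div_cancel_left _ hi0] at ht2
      have hdn := Nat.mod_add_div (2 * d) i
      have hek : (2 * d) % i ≤ 2 * e := by
        rw [show 2 * d = 2 * e + i * N by omega, Nat.add_mul_mod_self_left]
        exact Nat.mod_le _ _
      by_cases h1 : 2 * (m / i) + t < N + 2
      · refine ⟨m / i, ?_, Or.inr (Or.inr ?_), by omega, by omega⟩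
        · calc 2 * i * (m / i) = i * (2 * (m / i)) := by ring
            _ ≤ i * N := Nat.mul_le_mul_left _ (by omega)
        · calc r - 1 + 2 * i * (m / i) = i * (t + 2 * (m / i)) := by rw [ht']; ring
            _ < i * (N + 2) := Nat.mul_lt_mul_of_pos_left (by omega) hi0
            _ = i * N + 2 * i := by ring
      · set A := (N + 1 - t) / 2 with hAdef
        have hA2' : t + 2 * A < N + 2 ∨ A = 0 := by omega
        have hAm : i * A ≤ i * (m / i) := Nat.mul_le_mul_left _ (by omega)
        have h5 : i * (N - 2 * A) ≤ i * t := Nat.mul_le_mul_left _ (by omega)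
        have h7 : i * t + i * (2 * (m / i)) ≤ i * (2 * d / i) := by
          rw [← Nat.mul_add]; exact Nat.mul_le_mul_left _ ht2
        rw [Nat.mul_sub] at h5
        have e2 : i * (2 * A) = 2 * (i * A) := by ring
        have e3 : i * (2 * (m / i)) = 2 * (i * (m / i)) := by ring
        rcases Nat.eq_zero_or_pos A with hA0 | hA0
        · refine ⟨0, by simp, ?_, by simp, ?_⟩
          · exact Or.inl rfl
          · rw [hA0] at h5 e2
            simp only [mul_zero, Nat.sub_zero] at h5 ⊢
            omega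
        · refine ⟨A, ?_, Or.inr (Or.inr ?_), by omega, by omega⟩
          · calc 2 * i * A = i * (2 * A) := by ring
              _ ≤ i * N := Nat.mul_le_mul_left _ (by omega)
          · calc r - 1 + 2 * i * A = i * (t + 2 * A) := by rw [ht']; ring
              _ < i * (N + 2) := Nat.mul_lt_mul_of_pos_left (by omega) hi0
              _ = i * N + 2 * i := by ring
  obtain ⟨W₁, hW₁, hti₁, hd₁⟩ : ∃ W₁ : Submodule F (mv a), Inv (a.restrict (inv_mv (a := a))) W₁ ∧
      TI (B.restrict (mv a)) W₁ ∧ finrank F W₁ = i * A := by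
    rcases hA2 with hA0 | hA2
    · exact ⟨⊥, inv_bot, fun u hu v _ => by simp [(Submodule.mem_bot F).1 hu], by simp [hA0]⟩
    · exact exists_ti (good_restrict hG inv_mv hNR) hsf (aeval_mv har) hAll A
        (by rw [hN]; exact hA1) (by rw [hN, hdeg]; exact hA2)
  obtain ⟨W₂, hW₂, hti₂, hd₂⟩ := (exists_sub hG hNE).2.1 (m - i * A) (by show _ ≤ finrank F (fx a); omega)
  have hle : W₁.map (mv a).subtype ≤ B.orthogonal W₂ := fun x hx => (mem_orth hG).2 fun y hy =>
    (mem_orth hG).1 (horth.symm ▸ lift_le W₁ hx) y (hW₂ hy)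
  refine ⟨W₁.map (mv a).subtype ⊔ W₂, (inv_lift hW₁).sup (inv_of_le_fx hW₂),
    ti_sup hG (ti_lift hti₁) hti₂ hle, ?_⟩
  have h1 := Submodule.finrank_sup_add_finrank_inf_eq (W₁.map (mv a).subtype) W₂
  rw [(hc.disjoint.symm.mono (lift_le W₁) hW₂).eq_bot, finrank_bot, finrank_lift, hd₁, hd₂] at h1
  omega

theorem exists_prime_nd (hG : Good B a) (hr : (r : F) ≠ 0) (hr2 : r ≠ 2) (har : a ^ r = 1) {d m : ℕ}
    (hd : finrank F V = 2 * d) (hmd : m ≤ 2 * d) (hme : Even m) {c : ℕ}
    (hc : c = if Even (orderOf (Fintype.card F : ZMod r)) then orderOf (Fintype.card F : ZMod r)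
        else 2 * orderOf (Fintype.card F : ZMod r))
    (hk : m % c ≤ (2 * d) % c) :
    ∃ W : Submodule F V, Inv a W ∧ Alt.NDon B W ∧ finrank F W = m := by
  obtain ⟨hsf, hAll, -, hi0, -⟩ := poly_facts (F := F) (r := r) hr
  obtain ⟨hcompl, horth, hNE, hNR⟩ := fixed_decomp hG hr har
  set i := orderOf (Fintype.card F : ZMod r) with hidef
  have hsum := finrank_fx_add (a := a) hG
  obtain ⟨e, he⟩ : Even (finrank F (fx a)) := (exists_sub hG hNE).1
  have hRev : Even (finrank F (mv a)) := (exists_sub hG hNR).1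
  have hG' := good_restrict hG (inv_mv (a := a)) hNR
  have hc2 : Even c ∧ 0 < c ∧ c ∣ finrank F (mv a) ∧ (∀ A, c * A ≤ finrank F (mv a) →
      ∃ W : Submodule F (mv a), Inv (a.restrict (inv_mv (a := a))) W ∧ Alt.NDon (B.restrict (mv a)) W ∧
        finrank F W = c * A) := by
    by_cases heven : Even i
    · rw [if_pos heven] at hc
      subst hc
      refine ⟨heven, hi0, dvd_mv hG hr har, ?_⟩
      obtain ⟨h, hh⟩ := heven
      have hdq : r ∣ Fintype.card F ^ h + 1 := by
        have h2 : r ∣ Fintype.card F ^ i - 1 := by rw [LargeSylow.dvd_sub_iff Fintype.card_pos]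
        rw [show Fintype.card F ^ i - 1 = (Fintype.card F ^ h + 1) * (Fintype.card F ^ h - 1) by
          rw [← Nat.sq_sub_sq, one_pow, ← pow_mul, hh]; ring_nf] at h2
        refine ((Fact.out : r.Prime).dvd_mul.1 h2).resolve_right fun h3 => ?_
        rw [LargeSylow.dvd_sub_iff Fintype.card_pos, ← hidef] at h3
        have := Nat.le_of_dvd (by omega) h3
        omega
      refine exists_nd_even hG' hsf (aeval_mv har) hAll (j := h) ?_ ?_
      · refine LinearMap.ext fun x => Subtype.ext ?_
        have hbk : ∀ (k : ℕ) (z : mv a), (((a.restrict (inv_mv (a := a))) ^ k) z : V) = (a ^ k) z := by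
          intro k
          induction k with
          | zero => intro z; rfl
          | succ k ih =>
              intro z
              rw [pow_succ', pow_succ', Module.End.mul_apply, Module.End.mul_apply, ← ih]
              rfl
        rw [← pow_succ', hbk]
        obtain ⟨s, hs⟩ := hdq
        rw [hs, pow_mul, har, one_pow]
        rfl
      · intro v hv
        have hv2 : a (a (v : V)) = (v : V) := congrArg Subtype.val hv
        obtain ⟨s, hs⟩ := (Fact.out : r.Prime).odd_of_ne_two hr2
        have h2 : ∀ k, (a ^ (2 * k)) (v : V) = v := fun k => by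
          induction k with
          | zero => simp
          | succ k ih =>
            rw [show 2 * (k + 1) = 2 * k + 1 + 1 by ring, pow_succ, pow_succ, Module.End.mul_apply,
              Module.End.mul_apply, hv2, ih]
        have hav : a (v : V) = v := by
          have := LinearMap.congr_fun har (v : V)
          rwa [hs, pow_succ', Module.End.mul_apply, h2, Module.End.one_apply] at this
        exact Subtype.ext (Submodule.disjoint_def.1 hcompl.disjoint _ (mem_fx hav) v.2)
    · rw [if_neg heven] at hc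
      subst hc
      refine ⟨even_two_mul i, by omega, ?_, exists_nd_odd hG' hsf (aeval_mv har) hAll (Nat.not_even_iff_odd.1 heven)⟩
      exact Nat.Coprime.mul_dvd_of_dvd_of_dvd
        (Nat.coprime_two_left.2 (Nat.not_even_iff_odd.1 heven)) (even_iff_two_dvd.1 hRev) (dvd_mv hG hr har)
  obtain ⟨hce, hc0, ⟨P, hP⟩, hstep⟩ := hc2
  have hdm := Nat.mod_add_div m c
  have hek : (2 * d) % c ≤ 2 * e := by
    rw [show 2 * d = 2 * e + c * P by omega, Nat.add_mul_mod_self_left]
    exact Nat.mod_le _ _
  obtain ⟨A, hA1, hA2, hA3⟩ : ∃ A, A ≤ P ∧ c * A ≤ m ∧ m - c * A ≤ 2 * e := by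
    refine ⟨min P (m / c), min_le_left _ _, (Nat.mul_le_mul_left _ (min_le_right _ _)).trans (by omega), ?_⟩
    rcases min_choice P (m / c) with h | h <;> rw [h] <;> omega
  obtain ⟨W₁, hW₁, hn₁, hd₁⟩ := hstep A (by rw [hP]; exact Nat.mul_le_mul_left _ hA1)
  obtain ⟨b, hb⟩ : Even (m - c * A) := (Nat.even_sub hA2).2 ⟨fun _ => hce.mul_right A, fun _ => hme⟩
  obtain ⟨W₂, hW₂, hn₂, hd₂⟩ := (exists_sub hG hNE).2.2 b (by show _ ≤ finrank F (fx a); omega)
  have hle : W₁.map (mv a).subtype ≤ B.orthogonal W₂ := fun x hx => (mem_orth hG).2 fun y hy =>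
    (mem_orth hG).1 (horth.symm ▸ lift_le W₁ hx) y (hW₂ hy)
  obtain ⟨h1, h2⟩ := ndon_sup hG (ndon_lift hn₁) hn₂ hle
  refine ⟨W₁.map (mv a).subtype ⊔ W₂, (inv_lift hW₁).sup (inv_of_le_fx hW₂), h1, ?_⟩
  rw [h2, finrank_lift, hd₁, hd₂]
  omega

end Cfsg.Agent.Classical.SympElem
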