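import Cfsg.Agent.Classical.SympElem.Model

/-!
# Symplectic elements with scalar prime power
-/

set_option autoImplicit false

namespace Cfsg.Agent.Classical.SympElem

open Module Cfsg.Agent.SympConj

universe u

variable {F : Type u} [Field F] {d r : ℕ}

theorem scalar_sq (hd : 1 ≤ d) (y : Matrix.symplecticGroup (Fin d) F) {z : F}
    (h : y.1 = z • (1 : Matrix (Fin d ⊕ Fin d) (Fin d ⊕ Fin d) F)) : z ^ 2 = 1 := by
  haveI := nontrivial_symp (F := F) (m := d) hd
  obtain ⟨u, hu⟩ := exists_ne (0 : Fin d ⊕ Fin d → F)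
  obtain ⟨v, hv⟩ : ∃ v, sympB d F u v ≠ 0 := by
    by_contra hc
    push Not at hc
    exact hu ((good_matrix y).sep u hc)
  have := (good_matrix y).pres u v
  rw [h, map_smul, Matrix.toLin'_one, LinearMap.smul_apply, LinearMap.smul_apply, LinearMap.id_apply, map_smul,
    LinearMap.map_smul₂, smul_eq_mul, smul_eq_mul, ← mul_assoc] at this
  exact mul_right_cancel₀ hv (by rw [pow_two, one_mul]; exact this)

/-- An element of odd projective order is a sign times an element of that order. -/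
theorem exists_normalise (hd : 1 ≤ d) (hr : Odd r) (x : Matrix.symplecticGroup (Fin d) F) {z : F}
    (h : ((x ^ r : Matrix.symplecticGroup (Fin d) F) : Matrix (Fin d ⊕ Fin d) (Fin d ⊕ Fin d) F) =
      z • (1 : Matrix (Fin d ⊕ Fin d) (Fin d ⊕ Fin d) F)) :
    ∃ a : Module.End F (Fin d ⊕ Fin d → F), Good (sympB d F) a ∧ a ^ r = 1 ∧
      ∀ W : Submodule F (Fin d ⊕ Fin d → F), Inv a W → W.map (Matrix.toLin' x.1) ≤ W := by
  have hz := scalar_sq hd _ h
  have hG := good_matrix x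
  have hzr : z ^ r = z := by
    obtain ⟨s, rfl⟩ := hr
    rw [pow_succ, pow_mul, hz, one_pow, one_mul]
  have hz0 : z ≠ 0 := fun h0 => by rw [h0] at hz; simp at hz
  refine ⟨z • Matrix.toLin' x.1, ⟨hG.alt, hG.sep, fun u v => ?_⟩, ?_, fun W hW => inv_iff.1 fun w hw => ?_⟩
  · rw [LinearMap.smul_apply, LinearMap.smul_apply, map_smul, LinearMap.map_smul₂, smul_smul, ← pow_two, hz,
      one_smul, hG.pres]
  · rw [_root_.smul_pow, hzr, ← Matrix.toLin'_pow, ← SubmonoidClass.coe_pow, h, map_smul, smul_smul, ← pow_two, hz,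
      one_smul, Matrix.toLin'_one]
    rfl
  · have := W.smul_mem z⁻¹ (hW w hw)
    rwa [LinearMap.smul_apply, smul_smul, inv_mul_cancel₀ hz0, one_smul] at this

/-- An element of order `r` moving some vector is not scalar. -/
theorem not_scalar (hd : 1 ≤ d) (hr : Odd r) (x : Matrix.symplecticGroup (Fin d) F) (hx : x ^ r = 1)
    (hfx : finrank F (fx (Matrix.toLin' x.1)) < 2 * d) (z : F) :
    x.1 ≠ z • (1 : Matrix (Fin d ⊕ Fin d) (Fin d ⊕ Fin d) F) := by
  intro h
  have hz := scalar_sq hd x h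
  have hxr := toLin'_pow_one x hx
  rw [h, map_smul, Matrix.toLin'_one, ← Module.End.one_eq_id, _root_.smul_pow, one_pow] at hxr
  haveI := nontrivial_symp (F := F) (m := d) hd
  have hzr : z ^ r = 1 := smul_left_injective F (one_ne_zero (α := Module.End F (Fin d ⊕ Fin d → F)))
    (by simpa using hxr)
  have hz1 : z = 1 := by
    obtain ⟨s, rfl⟩ := hr
    rwa [pow_succ, pow_mul, hz, one_pow, one_mul] at hzr
  rw [hz1, one_smul] at h
  rw [h, Matrix.toLin'_one, ← Module.End.one_eq_id, fx, sub_self, LinearMap.ker_zero, finrank_top, finrank_symp] at hfx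
  exact lt_irrefl _ hfx

theorem pow_scalar_of_one (x : Matrix.symplecticGroup (Fin d) F) (hx : x ^ r = 1) :
    ∃ z : F, ((x ^ r : Matrix.symplecticGroup (Fin d) F) : Matrix (Fin d ⊕ Fin d) (Fin d ⊕ Fin d) F) =
      z • (1 : Matrix (Fin d ⊕ Fin d) (Fin d ⊕ Fin d) F) :=
  ⟨1, by rw [hx, one_smul]; rfl⟩

theorem J_facts (hd : 1 ≤ d) :
    ∃ x : Matrix.symplecticGroup (Fin d) F,
      ((x ^ 2 : Matrix.symplecticGroup (Fin d) F) : Matrix (Fin d ⊕ Fin d) (Fin d ⊕ Fin d) F) =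
        (-1 : F) • (1 : Matrix (Fin d ⊕ Fin d) (Fin d ⊕ Fin d) F) ∧
      (∀ z : F, x.1 ≠ z • (1 : Matrix (Fin d ⊕ Fin d) (Fin d ⊕ Fin d) F)) ∧
      ∀ v, Matrix.toLin' x.1 (Matrix.toLin' x.1 v) = -v := by
  refine ⟨⟨Matrix.J (Fin d) F, SymplecticGroup.J_mem _ _⟩, ?_, fun z hz => ?_, fun v => ?_⟩
  · rw [SubmonoidClass.coe_pow, pow_two]
    show Matrix.J (Fin d) F * Matrix.J (Fin d) F = _
    rw [Matrix.J_squared, neg_one_smul]
  · have := congrFun (congrFun hz (Sum.inr ⟨0, hd⟩)) (Sum.inl ⟨0, hd⟩)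
    simp [Matrix.J] at this
  · show Matrix.toLin' (Matrix.J (Fin d) F) (Matrix.toLin' (Matrix.J (Fin d) F) v) = -v
    rw [← LinearMap.comp_apply, ← Matrix.toLin'_mul, Matrix.J_squared, map_neg, Matrix.toLin'_one]
    rfl

theorem sq_cases (hd : 1 ≤ d) (x : Matrix.symplecticGroup (Fin d) F) {z : F}
    (h : ((x ^ 2 : Matrix.symplecticGroup (Fin d) F) : Matrix (Fin d ⊕ Fin d) (Fin d ⊕ Fin d) F) =
      z • (1 : Matrix (Fin d ⊕ Fin d) (Fin d ⊕ Fin d) F)) :
    (Matrix.toLin' x.1) ^ 2 = 1 ∨ ∀ v, Matrix.toLin' x.1 (Matrix.toLin' x.1 v) = -v := by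
  have hz : z ^ 2 = 1 := scalar_sq hd _ h
  have hT : (Matrix.toLin' x.1) ^ 2 = z • (1 : Module.End F (Fin d ⊕ Fin d → F)) := by
    rw [← Matrix.toLin'_pow, ← SubmonoidClass.coe_pow, h, map_smul, Matrix.toLin'_one]
    rfl
  rcases sq_eq_one_iff.1 hz with rfl | rfl
  · exact Or.inl (by rw [hT, one_smul])
  · refine Or.inr fun v => ?_
    rw [← Module.End.mul_apply, ← pow_two, hT]
    simp

end Cfsg.Agent.Classical.SympElem
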