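import Cfsg.Agent.Classical.SympElem.Decomp
import Cfsg.Agent.Classical.SympElem.Involution

/-!
# Swapped pairs of non-degenerate subspaces for involutions in characteristic two
-/

set_option autoImplicit false

namespace Cfsg.Agent.Classical.SympElem

open Module Cfsg.Agent.SympConj

universe u v

variable {F : Type u} [Field F] {V : Type v} [AddCommGroup V] [Module F V] [FiniteDimensional F V]
  {B : LinearMap.BilinForm F V} {a : Module.End F V}

theorem ndon_map (hG : Good B a) {P : Submodule F V} (hP : Alt.NDon B P) : Alt.NDon B (P.map a) := by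
  rintro _ ⟨x, hx, rfl⟩ h0
  obtain ⟨z, hz, hne⟩ := hP x hx (fun h => h0 (by rw [h, map_zero]))
  exact ⟨a z, ⟨z, hz, rfl⟩, by rwa [hG.pres]⟩

theorem plane_or_swap (hG : Good B a) (h2 : (2 : F) = 0) (har : ∀ v, a (a v) = v) :
    ∀ (h : ℕ) (U : Submodule F V), Inv a U → Alt.NDon B U → finrank F U = 4 * h →
      (∃ W₀, W₀ ≤ U ∧ Inv a W₀ ∧ Alt.NDon B W₀ ∧ finrank F W₀ = 2) ∨
        ∃ P, P ≤ U ∧ Alt.NDon B P ∧ finrank F P = 2 * h ∧ ∀ x ∈ P, ∀ y ∈ P, B (a x) y = 0 := by
  intro h
  induction h with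
  | zero =>
    exact fun U _ _ _ => Or.inr ⟨⊥, bot_le, fun w hw h0 => absurd ((Submodule.mem_bot F).1 hw) h0, by simp,
      fun x hx y _ => by rw [(Submodule.mem_bot F).1 hx, map_zero, map_zero, LinearMap.zero_apply]⟩
  | succ h ih =>
    intro U hU hN hdim
    by_cases hplane : ∃ W₀, W₀ ≤ U ∧ Inv a W₀ ∧ Alt.NDon B W₀ ∧ finrank F W₀ = 2
    · exact Or.inl hplane
    have hne : U ≠ ⊥ := fun he => by rw [he, finrank_bot] at hdim; omega
    have hneg : ∀ x y, B y x = B x y := fun x y => by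
      rw [hG.skew x y]; linear_combination (-B x y) * h2
    have hsym : ∀ x y, B (a x) y = B x (a y) := fun x y => by
      conv_lhs => rw [← har y]
      exact hG.pres _ _
    have hq : ∀ u ∈ U, B (a u) u = 0 := by
      intro u hu
      by_contra hne'
      obtain ⟨hn, hdm⟩ := ndon_span_range (B := B) ![u, a u] fun c hc => by
        have h1 := hc 0
        have h3 := hc 1
        simp only [Fin.sum_univ_two, Matrix.cons_val_zero, Matrix.cons_val_one, hG.alt u, hG.alt (a u),
          mul_zero, zero_add, add_zero, hneg (a u) u, mul_eq_zero] at h1 h3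
        funext l
        fin_cases l
        · exact h3.resolve_right hne'
        · exact h1.resolve_right hne'
      refine hplane ⟨_, Submodule.span_le.2 ?_, inv_span ?_, hn, hdm⟩
      · rintro _ ⟨l, rfl⟩
        fin_cases l
        · exact hu
        · exact hU u hu
      · rintro _ ⟨l, rfl⟩
        fin_cases l
        · exact Submodule.subset_span ⟨1, rfl⟩
        · show a (a u) ∈ _
          rw [har]
          exact Submodule.subset_span ⟨0, rfl⟩
    obtain ⟨u, hu, hau⟩ : ∃ u ∈ U, a u - u ≠ 0 := by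
      by_contra hc
      push Not at hc
      obtain ⟨W, l, n, dm⟩ := (exists_sub hG hN).2.2 1 (by omega)
      refine hplane ⟨W, l, fun w hw => ?_, n, dm⟩
      rw [sub_eq_zero.1 (hc w (l hw))]
      exact hw
    obtain ⟨v₀, hv₀, huv⟩ := Alt.exists_partner hG.alt hN (U.sub_mem (hU u hu) hu) hau
    set v := v₀ + (B u v₀ + 1) • (a v₀ - v₀) with hv_def
    have hv : v ∈ U := U.add_mem hv₀ (U.smul_mem _ (U.sub_mem (hU v₀ hv₀) hv₀))
    have e0 : B (a u) v₀ = 1 + B u v₀ := by
      rw [map_sub, LinearMap.sub_apply] at huv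
      linear_combination huv
    have huv' : B u v = 1 := by
      rw [hv_def, map_add, map_smul, map_sub, ← hsym, e0, smul_eq_mul]
      linear_combination (B u v₀) * h2
    have hauv : B (a u) v = 0 := by
      rw [hv_def, map_add, map_smul, map_sub, hG.pres, e0, smul_eq_mul]
      linear_combination -(B u v₀ + B u v₀ ^ 2 + 0) * 0
    have hP : Alt.NDon B (Submodule.span F (Set.range ![u, v])) ∧
        finrank F (Submodule.span F (Set.range ![u, v])) = 2 := by
      refine ndon_span_range (B := B) _ fun c hc => ?_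
      have h0 := hc 0
      have h1 := hc 1
      simp [Fin.sum_univ_two, hG.alt u, hG.alt v, huv', hneg u v] at h0 h1
      funext j
      fin_cases j
      · exact h1
      · exact h0
    set P₁ := Submodule.span F (Set.range ![u, v]) with hP₁
    have hPU : P₁ ≤ U := Submodule.span_le.2 (by
      rintro _ ⟨l, rfl⟩
      fin_cases l
      · exact hu
      · exact hv)
    have hPP : ∀ x ∈ P₁, ∀ y ∈ P₁, B (a x) y = 0 := by
      intro x hx y hy
      obtain ⟨c, rfl⟩ := (Submodule.mem_span_range_iff_exists_fun F).1 hx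
      obtain ⟨e, rfl⟩ := (Submodule.mem_span_range_iff_exists_fun F).1 hy
      have hvu : B (a v) u = 0 := by rw [hsym, hneg]; exact hauv
      simp [Fin.sum_univ_two, hq u hu, hq v hv, hauv, hvu]
    have hor : P₁.map a ≤ B.orthogonal P₁ := by
      rintro _ ⟨x, hx, rfl⟩
      exact (mem_orth hG).2 fun y hy => hPP x hx y hy
    obtain ⟨hWn, hWd⟩ := ndon_sup hG (ndon_map hG hP.1) hP.1 hor
    rw [(Submodule.equivMapOfInjective a hG.injective P₁).finrank_eq.symm, hP.2] at hWd
    set W := P₁.map a ⊔ P₁ with hW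
    have hWinv : Inv a W := by
      intro x hx
      obtain ⟨_, ⟨s, hs, rfl⟩, t, ht, rfl⟩ := Submodule.mem_sup.1 hx
      rw [map_add, har, add_comm]
      exact Submodule.add_mem_sup ⟨t, ht, rfl⟩ hs
    have hWU : W ≤ U := sup_le (fun z ⟨s, hs, hz⟩ => hz ▸ hU s (hPU hs)) hPU
    set U' := U ⊓ B.orthogonal W with hU'
    have hsup : W ⊔ U' = U := by
      rw [hU', inf_comm U, ← sup_inf_assoc_of_le _ hWU, (isCompl_orth hG hWn).sup_eq_top, top_inf_eq]
    have hd' : finrank F U' = 4 * h := by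
      have h1 := Submodule.finrank_sup_add_finrank_inf_eq W U'
      rw [hsup, ((isCompl_orth hG hWn).disjoint.mono_right inf_le_right).eq_bot, finrank_bot, hWd, hdim] at h1
      omega
    have hN' : Alt.NDon B U' := by
      intro x hx h0
      obtain ⟨z, hz, hne⟩ := hN x hx.1 h0
      rw [← hsup] at hz
      obtain ⟨s, hs, t, ht, rfl⟩ := Submodule.mem_sup.1 hz
      exact ⟨t, ht, by rwa [map_add, (mem_orth hG).1 hx.2 s hs, zero_add] at hne⟩
    rcases ih U' (hU.inf (inv_orth hG hWinv)) hN' hd' with ⟨W₀, q0, q1, q2, q3⟩ | ⟨P', q0, q1, q2, q3⟩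
    · exact absurd ⟨W₀, q0.trans inf_le_left, q1, q2, q3⟩ hplane
    have hor' : P' ≤ B.orthogonal P₁ := fun x hx => (mem_orth hG).2 fun y hy =>
      (mem_orth hG).1 (q0 hx).2 y (Submodule.mem_sup_right hy)
    obtain ⟨r1, r2⟩ := ndon_sup hG q1 hP.1 hor'
    refine Or.inr ⟨P' ⊔ P₁, sup_le (q0.trans inf_le_left) hPU, r1, by rw [r2, q2, hP.2]; ring, ?_⟩
    intro x hx y hy
    obtain ⟨s, hs, t, ht, rfl⟩ := Submodule.mem_sup.1 hx
    obtain ⟨s', hs', t', ht', rfl⟩ := Submodule.mem_sup.1 hy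
    have e1 : B (a s) t' = 0 := (mem_orth hG).1 (inv_orth hG hWinv s (q0 hs).2) t' (Submodule.mem_sup_right ht')
    have e2 : B (a t) s' = 0 := by
      rw [hneg, (mem_orth hG).1 (q0 hs').2 _ (Submodule.mem_sup_left ⟨t, ht, rfl⟩)]
    simp [q3 s hs s' hs', hPP t ht t' ht', e1, e2]

theorem step_char_two (hG : Good B a) (h2 : (2 : F) = 0) (har : ∀ v, a (a v) = v) {h : ℕ} (s : ℕ)
    (U : Submodule F V) (hU : Inv a U) (hN : Alt.NDon B U) (hdim : finrank F U = 2 * h * (s + 1)) :
    ∃ (s₁ : ℕ) (W : Submodule F V) (D : Fin s₁ → Submodule F V), 0 < s₁ ∧ s₁ ≤ s + 1 ∧ W ≤ U ∧ Inv a W ∧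
      Alt.NDon B W ∧ finrank F W = 2 * h * s₁ ∧ OrthDec B W (2 * h) D ∧ Permuted a D := by
  by_cases hpar : Odd (h * (s + 1)) ∨ Even h
  · obtain ⟨W, l, i, n, dm⟩ := exists_char_two_nd hG h2 har (h * (s + 1)) U hU hN (by rw [hdim]; ring) h
      (Nat.le_mul_of_pos_right _ (Nat.succ_pos s)) hpar
    exact step_single hG l i n dm
  simp only [not_or, Nat.not_odd_iff_even, Nat.not_even_iff_odd] at hpar
  obtain ⟨hev, hodd⟩ := hpar
  have hs : 1 ≤ s := by
    by_contra hc
    rw [show s = 0 by omega, zero_add, mul_one] at hev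
    exact Nat.not_even_iff_odd.2 hodd hev
  obtain ⟨U₂, l₂, i₂, n₂, d₂⟩ := exists_char_two_nd hG h2 har (h * (s + 1)) U hU hN (by rw [hdim]; ring) (2 * h)
    (by rw [mul_comm 2 h]; exact Nat.mul_le_mul_left _ (by omega)) (Or.inr (even_two_mul h))
  rcases plane_or_swap hG h2 har h U₂ i₂ n₂ (by rw [d₂]; ring) with ⟨W₀, l₀, i₀, n₀, d₀⟩ | ⟨P, lP, nP, dP, hPP⟩
  · set U' := U₂ ⊓ B.orthogonal W₀ with hU'
    have hsup : W₀ ⊔ U' = U₂ := by
      rw [hU', inf_comm U₂, ← sup_inf_assoc_of_le _ l₀, (isCompl_orth hG n₀).sup_eq_top, top_inf_eq]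
    have hd' : finrank F U' = 2 * (2 * h - 1) := by
      have h1 := Submodule.finrank_sup_add_finrank_inf_eq W₀ U'
      rw [hsup, ((isCompl_orth hG n₀).disjoint.mono_right inf_le_right).eq_bot, finrank_bot, d₀, d₂] at h1
      omega
    have hN' : Alt.NDon B U' := by
      intro x hx h0
      obtain ⟨z, hz, hne⟩ := n₂ x hx.1 h0
      rw [← hsup] at hz
      obtain ⟨s, hs, t, ht, rfl⟩ := Submodule.mem_sup.1 hz
      exact ⟨t, ht, by rwa [map_add, (mem_orth hG).1 hx.2 s hs, zero_add] at hne⟩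
    obtain ⟨W, l, i, n, dm⟩ := exists_char_two_nd hG h2 har (2 * h - 1) U' (i₂.inf (inv_orth hG i₀)) hN' hd' h
      (by have := hodd.pos; omega) (Or.inl (by have := hodd.pos; rw [Nat.odd_iff]; omega))
    exact step_single hG ((l.trans inf_le_left).trans l₂) i n dm
  · have hor : P.map a ≤ B.orthogonal P := by
      rintro _ ⟨x, hx, rfl⟩
      exact (mem_orth hG).2 fun y hy => hPP x hx y hy
    have haP : finrank F (P.map a) = 2 * h := by
      rw [(Submodule.equivMapOfInjective a hG.injective P).finrank_eq.symm, dP]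
    have haU : P.map a ≤ U₂ := fun z ⟨s, hs, hz⟩ => hz ▸ i₂ s (lP hs)
    refine ⟨2, U₂, ![P, P.map a], two_pos, by omega, l₂, i₂, n₂, by rw [d₂]; ring,
      ⟨fun j => ?_, fun j => ?_, fun j => ?_, fun j j' hjj u hu v hv => ?_⟩, Equiv.swap 0 1, fun j => ?_⟩
    · fin_cases j
      · exact lP
      · exact haU
    · fin_cases j
      · exact nP
      · exact ndon_map hG nP
    · fin_cases j
      · exact dP
      · exact haP
    · fin_cases j <;> fin_cases j'
      · exact absurd rfl hjj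
      · simp only [Fin.mk_one, Matrix.cons_val_one, Matrix.cons_val_zero] at hu hv
        rw [hG.skew v u, (mem_orth hG).1 (hor hv) u hu, neg_zero]
      · simp only [Fin.mk_one, Matrix.cons_val_one, Matrix.cons_val_zero] at hu hv
        exact (mem_orth hG).1 (hor hu) v hv
      · exact absurd rfl hjj
    · fin_cases j
      · simp
      · simp only [Fin.mk_one, Equiv.swap_apply_right, Matrix.cons_val_one, Matrix.cons_val_zero]
        rw [← Submodule.map_comp, show a.comp a = LinearMap.id from LinearMap.ext har, Submodule.map_id]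

end Cfsg.Agent.Classical.SympElem
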