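import Cfsg.Agent.Classical.SympElem.Basic
import Cfsg.Agent.Classical.Elusive.Pieces
import Mathlib.FieldTheory.ChevalleyWarning

/-!
# Totally isotropic invariant subspaces of semisimple isometries
-/

set_option autoImplicit false

namespace Cfsg.Agent.Classical.SympElem

open Module Polynomial Cfsg.Agent.SympConj Cfsg.Agent.MatModule Cfsg.Agent.Classical.Elusive

universe u v

variable {F : Type u} [Field F] {V : Type v} [AddCommGroup V] [Module F V]
  {B : LinearMap.BilinForm F V} {a : Module.End F V}

theorem aeval_mem {W : Submodule F V} (hW : Inv a W) (g : F[X]) {w : V} (hw : w ∈ W) : aeval a g w ∈ W := by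
  have hp : ∀ k : ℕ, (a ^ k) w ∈ W := fun k => by
    induction k with
    | zero => exact hw
    | succ k ih => rw [pow_succ', Module.End.mul_apply]; exact hW _ ih
  rw [aeval_eq_sum_range, LinearMap.sum_apply]
  exact W.sum_mem fun k _ => by rw [LinearMap.smul_apply]; exact W.smul_mem _ (hp k)

/-- The span of the first `i` images of a vector. -/
def cyc (a : Module.End F V) (u : V) (i : ℕ) : Submodule F V :=
  Submodule.span F (Set.range fun j : Fin i => (a ^ (j : ℕ)) u)

theorem cyc_props [FiniteDimensional F V] {f : F[X]} (hf : f.Monic) (hirr : Irreducible f) {u : V}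
    (hu : u ≠ 0) (hfu : aeval a f u = 0) :
    Inv a (cyc a u f.natDegree) ∧ finrank F (cyc a u f.natDegree) = f.natDegree ∧
      ∀ W : Submodule F V, Inv a W → W ≤ cyc a u f.natDegree → W ≠ ⊥ → W = cyc a u f.natDegree := by
  set i := f.natDegree with hi
  have hmem : ∀ j, j < i → (a ^ j) u ∈ cyc a u i := fun j hj => Submodule.subset_span ⟨⟨j, hj⟩, rfl⟩
  have hlead : (a ^ i) u = -∑ j : Fin i, f.coeff j • (a ^ (j : ℕ)) u := by
    have h := hfu
    rw [aeval_eq_sum_range, LinearMap.sum_apply, Finset.sum_range_succ, ← hi,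
      show f.coeff i = 1 from hf, one_smul, add_eq_zero_iff_eq_neg'] at h
    rw [h, Finset.sum_range]
    simp [LinearMap.smul_apply]
  have hinv : Inv a (cyc a u i) := by
    suffices h : (cyc a u i).map a ≤ cyc a u i from fun w hw => h ⟨w, hw, rfl⟩
    rw [cyc, Submodule.map_span, Submodule.span_le]
    rintro _ ⟨_, ⟨j, rfl⟩, rfl⟩
    show a ((a ^ (j : ℕ)) u) ∈ cyc a u i
    rw [← Module.End.mul_apply, ← pow_succ']
    rcases Nat.lt_or_ge ((j : ℕ) + 1) i with h | h
    · exact hmem _ h
    · rw [show (j : ℕ) + 1 = i by have := j.2; omega, hlead]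
      exact neg_mem (Submodule.sum_mem _ fun k _ => Submodule.smul_mem _ _ (hmem _ k.2))
  have key : ∀ c : Fin i → F, c ≠ 0 → ∃ g : F[X], aeval a g (∑ j, c j • (a ^ (j : ℕ)) u) = u := by
    intro c hc
    set h : F[X] := ∑ j : Fin i, C (c j) * X ^ (j : ℕ) with hh
    have hcoeff : ∀ j : Fin i, h.coeff j = c j := fun j => by
      rw [hh, finset_sum_coeff, Finset.sum_eq_single j]
      · simp
      · intro b _ hb
        simp [Fin.val_ne_of_ne hb.symm]
      · simp
    have hh0 : h ≠ 0 := fun h0 => hc (funext fun j => by rw [← hcoeff j, h0, coeff_zero]; rfl)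
    have hdeg : h.degree < f.degree := by
      rw [hh, degree_eq_natDegree hf.ne_zero]
      exact degree_sum_fin_lt c
    obtain ⟨s, t, hst⟩ : IsCoprime h f :=
      ((hirr.coprime_iff_not_dvd).2 (not_dvd_of_degree_lt hh0 hdeg)).symm
    refine ⟨s, ?_⟩
    have h1 : aeval a h u = ∑ j, c j • (a ^ (j : ℕ)) u := by
      simp [hh, map_sum, LinearMap.sum_apply, Module.algebraMap_end_apply, Module.End.mul_apply]
    rw [← h1, ← Module.End.mul_apply, ← map_mul, show s * h = 1 - t * f by rw [← hst]; ring, map_sub,
      map_one, map_mul, LinearMap.sub_apply, Module.End.one_apply, Module.End.mul_apply, hfu, map_zero,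
      sub_zero]
  have hli : LinearIndependent F (fun j : Fin i => (a ^ (j : ℕ)) u) := by
    refine Fintype.linearIndependent_iff.2 fun c hc => ?_
    by_contra hne
    push Not at hne
    obtain ⟨g, hg⟩ := key c (fun h => by obtain ⟨j, hj⟩ := hne; exact hj (congrFun h j))
    rw [hc, map_zero] at hg
    exact hu hg.symm
  refine ⟨hinv, by rw [cyc, finrank_span_eq_card hli, Fintype.card_fin], fun W hW hle hne => ?_⟩
  refine le_antisymm hle (Submodule.span_le.2 ?_)
  obtain ⟨w, hw, hw0⟩ := W.exists_mem_ne_zero_of_ne_bot hne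
  obtain ⟨c, hc⟩ := (Submodule.mem_span_range_iff_exists_fun F).1 (hle hw)
  obtain ⟨g, hg⟩ := key c (fun h => hw0 (by rw [← hc, h]; simp))
  rw [hc] at hg
  have huW : u ∈ W := hg ▸ aeval_mem hW g hw
  rintro _ ⟨j, rfl⟩
  have := aeval_mem hW (X ^ (j : ℕ)) huW
  rwa [map_pow, aeval_X] at this

/-- A nonzero common zero of few quadratic forms. -/
theorem exists_quad_zero [Fintype F] [FiniteDimensional F V] {K : Submodule F V} {k : ℕ}
    (β : Fin k → LinearMap.BilinForm F V) (h : 2 * k < finrank F K) :
    ∃ u ∈ K, u ≠ 0 ∧ ∀ j, β j u u = 0 := by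
  classical
  set b := Module.finBasis F K with hb
  set N := finrank F K with hN
  let P : Fin k → MvPolynomial (Fin N) F := fun j =>
    ∑ x : Fin N, ∑ y : Fin N, MvPolynomial.C (β j (b x : V) (b y : V)) * (MvPolynomial.X x * MvPolynomial.X y)
  have heval : ∀ j (z : Fin N → F), MvPolynomial.eval z (P j) =
      β j ((b.equivFun.symm z : K) : V) ((b.equivFun.symm z : K) : V) := by
    intro j z
    simp only [P, map_sum, map_mul, MvPolynomial.eval_C, MvPolynomial.eval_X, Basis.equivFun_symm_apply,
      Submodule.coe_sum, Submodule.coe_smul, LinearMap.sum_apply, map_smul, LinearMap.smul_apply, smul_eq_mul]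
    simp only [Finset.mul_sum]
    rw [Finset.sum_comm]
    exact Finset.sum_congr rfl fun x _ => Finset.sum_congr rfl fun y _ => by ring
  have hdeg : ∀ j, (P j).totalDegree ≤ 2 := fun j => by
    refine MvPolynomial.totalDegree_finsetSum_le fun x _ => MvPolynomial.totalDegree_finsetSum_le fun y _ => ?_
    refine (MvPolynomial.totalDegree_mul _ _).trans ?_
    rw [MvPolynomial.totalDegree_C, zero_add]
    refine (MvPolynomial.totalDegree_mul _ _).trans ?_
    rw [MvPolynomial.totalDegree_X, MvPolynomial.totalDegree_X]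
  obtain ⟨p, hp⟩ := CharP.exists F
  haveI := hp
  have hpp : p.Prime := CharP.char_is_prime F p
  haveI := Fact.mk hpp
  have hcw := char_dvd_card_solutions_of_fintype_sum_lt (K := F) p (σ := Fin N) (f := P) (by
    rw [Fintype.card_fin]
    calc ∑ j, (P j).totalDegree ≤ ∑ _j : Fin k, 2 := Finset.sum_le_sum fun j _ => hdeg j
      _ = 2 * k := by simp [mul_comm]
      _ < N := h)
  have h0 : ∀ j, MvPolynomial.eval (0 : Fin N → F) (P j) = 0 := fun j => by
    rw [heval, map_zero]; simp
  have h2 : 1 < Fintype.card {z : Fin N → F // ∀ j, MvPolynomial.eval z (P j) = 0} := by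
    have h1 : 0 < Fintype.card {z : Fin N → F // ∀ j, MvPolynomial.eval z (P j) = 0} :=
      Fintype.card_pos_iff.2 ⟨⟨0, h0⟩⟩
    have := Nat.le_of_dvd h1 (by convert hcw)
    have := hpp.two_le
    omega
  obtain ⟨z, hz⟩ := Fintype.exists_ne_of_one_lt_card h2 ⟨0, h0⟩
  refine ⟨(b.equivFun.symm z.1 : K), Submodule.coe_mem _, fun hc => hz (Subtype.ext ?_),
    fun j => by rw [← heval]; exact z.2 j⟩
  have hc' : b.equivFun.symm z.1 = 0 := Subtype.ext hc
  exact b.equivFun.symm.map_eq_zero_iff.1 hc'

/-- A cyclic subspace is totally isotropic as soon as half of its moments vanish. -/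
theorem ti_cyc [FiniteDimensional F V] (hG : Good B a) {f : F[X]} (hf : f.Monic) {u : V}
    (hfu : aeval a f u = 0) (h : ∀ j, 2 * j ≤ f.natDegree → B ((a ^ j) u) u = 0) :
    TI B (cyc a u f.natDegree) := by
  set i := f.natDegree with hi
  have hshift : ∀ (s k l : ℕ), B ((a ^ (s + k)) u) ((a ^ (s + l)) u) = B ((a ^ k) u) ((a ^ l) u) := by
    intro s k l
    induction s with
    | zero => simp
    | succ s ih =>
      rw [show s + 1 + k = (s + k) + 1 by ring, show s + 1 + l = (s + l) + 1 by ring, pow_succ',
        pow_succ' a (s + l), Module.End.mul_apply, Module.End.mul_apply, hG.pres, ih]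
  have hsum : ∀ s, ∑ l ∈ Finset.range (i + 1), f.coeff l * B ((a ^ l) u) ((a ^ s) u) = 0 := by
    intro s
    have h1 := congrArg (fun x => B x ((a ^ s) u)) hfu
    simp only [aeval_eq_sum_range, LinearMap.sum_apply, LinearMap.smul_apply, map_sum, map_smul,
      smul_eq_mul, map_zero, LinearMap.zero_apply, ← hi] at h1
    exact h1
  have hc : ∀ k, k < i → B ((a ^ k) u) u = 0 := by
    intro k
    induction k using Nat.strong_induction_on with
    | _ k ih =>
      intro hk
      rcases Nat.lt_or_ge i (2 * k) with h2 | h2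
      swap
      · exact h k h2
      have hs := hsum (i - k)
      rw [Finset.sum_eq_single i] at hs
      · rw [show f.coeff i = 1 from hf, one_mul] at hs
        have := hshift (i - k) k 0
        rw [show i - k + k = i by omega, add_zero, hs] at this
        simpa using this.symm
      · intro l hl hne
        have hl' := Finset.mem_range.1 hl
        refine mul_eq_zero_of_right _ ?_
        rcases le_total (i - k) l with h3 | h3
        · have := hshift (i - k) (l - (i - k)) 0
          rw [show i - k + (l - (i - k)) = l by omega, add_zero] at this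
          rw [this, pow_zero, Module.End.one_apply]
          exact ih _ (by omega) (by omega)
        · have := hshift l 0 (i - k - l)
          rw [show l + (i - k - l) = i - k by omega, add_zero] at this
          rw [this, pow_zero, Module.End.one_apply, hG.skew]
          rw [ih _ (by omega) (by omega), neg_zero]
      · exact fun hn => absurd (Finset.mem_range.2 (by omega)) hn
  intro x hx y hy
  induction hx using Submodule.span_induction with
  | zero => simp
  | add s t _ _ hs ht => simp [hs, ht]
  | smul c s _ hs => simp [hs]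
  | mem s hs =>
    obtain ⟨j, rfl⟩ := hs
    induction hy using Submodule.span_induction with
    | zero => simp
    | add s t _ _ hs ht => rw [map_add, hs, ht, add_zero]
    | smul c s _ hs => rw [map_smul, hs, smul_zero]
    | mem s hs =>
      obtain ⟨l, rfl⟩ := hs
      rcases le_total (l : ℕ) j with h3 | h3
      · have := hshift l ((j : ℕ) - l) 0
        rw [show (l : ℕ) + ((j : ℕ) - l) = j by omega, add_zero] at this
        rw [this, pow_zero, Module.End.one_apply]
        exact hc _ (by have := j.2; omega)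
      · have := hshift j 0 ((l : ℕ) - j)
        rw [show (j : ℕ) + ((l : ℕ) - j) = l by omega, add_zero] at this
        rw [this, pow_zero, Module.End.one_apply, hG.skew, hc _ (by have := l.2; omega), neg_zero]

/-- The irreducible factors of a polynomial all have degree `i`. -/
def AllDeg (g : F[X]) (i : ℕ) : Prop := ∀ f : F[X], f.Monic → Irreducible f → f ∣ g → f.natDegree = i

theorem blocks [FiniteDimensional F V] {g : F[X]} (hg : Squarefree g) (hag : aeval a g = 0) {i : ℕ}
    (hdeg : AllDeg g i) :
    i ∣ finrank F V ∧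
      (0 < finrank F V → ∃ f : F[X], f.Monic ∧ Irreducible f ∧ f ∣ g ∧ i ≤ finrank F (LinearMap.ker (aeval a f))) ∧
      (g.natDegree < finrank F V → ∃ f : F[X], f.Monic ∧ Irreducible f ∧ f ∣ g ∧
        2 * i ≤ finrank F (LinearMap.ker (aeval a f))) := by
  classical
  obtain ⟨ι, hι, s, hs, hirr, Φ, hΦ⟩ := exists_rootMul a hg hag
  have hdvd : ∀ j, s j ∣ g := fun j => dvd_of_aeval hΦ hag j
  have hsi : ∀ j, (s j).natDegree = i := fun j => hdeg _ (hs j) (hirr j) (hdvd j)
  have hn : finrank F V = ∑ j, (s j).natDegree := finrank_eq_sum Φ hs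
  have hker : ∀ (j : ι) (S : Finset ι), (∀ k ∈ S, s k = s j) →
      piece Φ S ≤ LinearMap.ker (aeval a (s j)) := by
    intro j S hS v hv
    rw [LinearMap.mem_ker]
    refine Φ.map_eq_zero_iff.1 (funext fun k => ?_)
    rw [aeval_apply hΦ, Pi.zero_apply]
    by_cases hk : k ∈ S
    · rw [← hS k hk, AdjoinRoot.mk_self, zero_mul]
    · rw [hv k hk, mul_zero]
  refine ⟨?_, fun hpos => ?_, fun hlt => ?_⟩
  · rw [hn]
    exact Finset.dvd_sum fun j _ => by rw [hsi j]
  · obtain ⟨j, -, -⟩ := Finset.exists_ne_zero_of_sum_ne_zero (hn ▸ hpos.ne')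
    refine ⟨s j, hs j, hirr j, hdvd j, ?_⟩
    have := Submodule.finrank_mono (hker j {j} (fun k hk => by rw [Finset.mem_singleton.1 hk]))
    rwa [finrank_piece hs, Finset.sum_singleton, hsi] at this
  · have hninj : ¬ Function.Injective s := by
      intro hinj
      have hd : ∏ j, s j ∣ g := by
        refine Fintype.prod_dvd_of_coprime (fun j k hjk => ?_) hdvd
        refine (hirr j).coprime_iff_not_dvd.2 fun hd => hjk (hinj ?_)
        exact eq_of_monic_of_associated (hs j) (hs k) ((hirr j).associated_of_dvd (hirr k) hd)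
      have := natDegree_le_of_dvd hd hg.ne_zero
      rw [natDegree_prod _ _ fun j _ => (hs j).ne_zero] at this
      omega
    obtain ⟨j, k, hjk, hne⟩ := Function.not_injective_iff.1 hninj
    refine ⟨s j, hs j, hirr j, hdvd j, ?_⟩
    have := Submodule.finrank_mono (hker j {j, k} (fun l hl => by
      rcases Finset.mem_insert.1 hl with rfl | hl
      · rfl
      · rw [Finset.mem_singleton.1 hl, ← hjk]))
    rwa [finrank_piece hs, Finset.sum_pair hne, hsi, hsi, ← two_mul] at this

theorem exists_ti_block [Fintype F] [FiniteDimensional F V] (hG : Good B a) {g : F[X]} (hg : Squarefree g)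
    (hag : aeval a g = 0) {i : ℕ} (hdeg : AllDeg g i)
    (h : (Odd i ∧ 0 < finrank F V) ∨ g.natDegree < finrank F V) :
    ∃ W : Submodule F V, Inv a W ∧ TI B W ∧ finrank F W = i := by
  obtain ⟨-, h1, h2⟩ := blocks hg hag hdeg
  obtain ⟨f, hf, hirr, hfg, hdim⟩ : ∃ f : F[X], f.Monic ∧ Irreducible f ∧ f ∣ g ∧
      2 * (i / 2) < finrank F (LinearMap.ker (aeval a f)) := by
    rcases h with ⟨hodd, hpos⟩ | hlt
    · obtain ⟨f, a1, a2, a3, a4⟩ := h1 hpos
      exact ⟨f, a1, a2, a3, by obtain ⟨w, rfl⟩ := hodd; omega⟩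
    · obtain ⟨f, a1, a2, a3, a4⟩ := h2 hlt
      refine ⟨f, a1, a2, a3, ?_⟩
      have := a2.natDegree_pos
      rw [hdeg f a1 a2 a3] at this
      omega
  obtain ⟨u, hu, hu0, hz⟩ := exists_quad_zero (fun j : Fin (i / 2) => B.comp (a ^ ((j : ℕ) + 1)) LinearMap.id) hdim
  have hi := hdeg f hf hirr hfg
  obtain ⟨hinv, hfin, -⟩ := cyc_props hf hirr hu0 (LinearMap.mem_ker.1 hu)
  refine ⟨cyc a u f.natDegree, hinv, ti_cyc hG hf (LinearMap.mem_ker.1 hu) (fun j hj => ?_), by rw [hfin, hi]⟩
  rcases j with _ | j
  · simpa using hG.alt u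
  · exact hz ⟨j, by omega⟩

/-- Totally isotropic invariant subspaces of every dimension allowed by the multiplicities. -/
theorem exists_ti [Fintype F] [FiniteDimensional F V] (hG : Good B a) {g : F[X]} (hg : Squarefree g)
    (hag : aeval a g = 0) {i : ℕ} (hdeg : AllDeg g i) :
    ∀ A, 2 * i * A ≤ finrank F V → (Odd i ∨ g.natDegree + 2 * i * A < finrank F V + 2 * i) →
      ∃ W : Submodule F V, Inv a W ∧ TI B W ∧ finrank F W = i * A := by
  intro A
  induction A with
  | zero => exact fun _ _ => ⟨⊥, inv_bot, fun u hu v _ => by simp [(Submodule.mem_bot F).1 hu], by simp⟩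
  | succ A ih =>
    intro hA hc
    obtain ⟨W, hW, hWti, hWd⟩ := ih (by rw [Nat.mul_succ] at hA; omega)
      (hc.imp id fun h => by rw [Nat.mul_succ] at h; omega)
    obtain ⟨C, hC, hWC⟩ := exists_compl hg hag hW
    set P := B.orthogonal W ⊓ C with hP
    have hPinv : Inv a P := (inv_orth hG hW).inf hC
    have hWle : W ≤ B.orthogonal W := fun x hx => (mem_orth hG).2 fun y hy => hWti x hx y hy
    have hsup : W ⊔ P = B.orthogonal W := by
      rw [hP, inf_comm (B.orthogonal W) C, ← sup_inf_assoc_of_le C hWle, hWC.sup_eq_top, top_inf_eq]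
    have hdisj : Disjoint W P := hWC.disjoint.mono_right inf_le_right
    have hPd : finrank F P + 2 * (i * A) = finrank F V := by
      have h1 := Submodule.finrank_sup_add_finrank_inf_eq W P
      rw [hsup, hdisj.eq_bot, finrank_bot, finrank_orth hG, hWd] at h1
      have := W.finrank_le
      rw [hWd] at this
      have h2 := Submodule.finrank_mono hWle
      rw [finrank_orth hG, hWd] at h2
      omega
    have hPN : Alt.NDon B P := by
      intro x hx h0
      by_contra hcn
      push Not at hcn
      have : x ∈ B.orthogonal (B.orthogonal W) := by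
        rw [mem_orth hG]
        intro y hy
        rw [← hsup] at hy
        obtain ⟨w, hw, p, hp, rfl⟩ := Submodule.mem_sup.1 hy
        rw [map_add, (mem_orth hG).1 hx.1 w hw, hcn p hp, add_zero]
      rw [orth_orth hG] at this
      exact h0 (Submodule.disjoint_def.1 hdisj x this hx)
    have hi0 : 0 < i ∨ i = 0 := (Nat.eq_zero_or_pos i).symm
    rcases hi0 with hi0 | hi0
    swap
    · subst hi0
      exact ⟨W, hW, hWti, by simpa using hWd⟩
    obtain ⟨W₁, hW₁, hW₁ti, hW₁d⟩ := exists_ti_block (good_restrict hG hPinv hPN) hg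
      (aeval_restrict hag hPinv) hdeg (by
        rw [Nat.mul_succ] at hA
        have e : 2 * (i * A) = 2 * i * A := by ring
        rcases hc with hc | hc
        · exact Or.inl ⟨hc, by omega⟩
        · rw [Nat.mul_succ] at hc
          exact Or.inr (by omega))
    have hle : W₁.map P.subtype ≤ B.orthogonal W := (lift_le W₁).trans inf_le_left
    refine ⟨W₁.map P.subtype ⊔ W, (inv_lift hW₁).sup hW, ti_sup hG (ti_lift hW₁ti) hWti hle, ?_⟩
    have h1 := Submodule.finrank_sup_add_finrank_inf_eq (W₁.map P.subtype) W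
    rw [(hdisj.symm.mono_left (lift_le W₁)).eq_bot, finrank_bot, finrank_lift, hW₁d, hWd] at h1
    rw [Nat.mul_succ]
    omega

end Cfsg.Agent.Classical.SympElem
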