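import Cfsg.Agent.Classical.SympElem.Involution
import Cfsg.Agent.MatModule.UnipotentFormCount
import Cfsg.Agent.MatModule.UnipotentFormModel

/-!
# Non-degenerate invariant subspaces of unipotent symplectic isometries in odd characteristic
-/

set_option autoImplicit false

namespace Cfsg.Agent.Classical.SympElem

open Module Cfsg.Agent.SympConj Cfsg.Agent.MatModule Cfsg.Agent.UniForm

universe u v

variable {F : Type u} [Field F] {V : Type v} [AddCommGroup V] [Module F V] [FiniteDimensional F V]
  {B : LinearMap.BilinForm F V} {a : Module.End F V}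

theorem ctx_of_good (hG : Good B a) : Ctx B a := ⟨LinearMap.IsAlt.isRefl hG.alt, hG.sep, hG.pres⟩

theorem pow_restrict_apply {W : Submodule F V} (hW : Inv a W) (k : ℕ) (x : W) :
    (((a.restrict hW - 1) ^ k) x : V) = ((a - 1) ^ k) x := by
  induction k generalizing x with
  | zero => rfl
  | succ k ih =>
    rw [pow_succ', pow_succ', Module.End.mul_apply, Module.End.mul_apply, ← ih]
    rfl

theorem nil_restrict {W : Submodule F V} (hW : Inv a W) {e : ℕ} (h : (a - 1) ^ e = 0) :
    (a.restrict hW - 1) ^ e = 0 :=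
  LinearMap.ext fun x => Subtype.ext (by rw [pow_restrict_apply, h]; rfl)

theorem hasType_split (hG : Good B a) {W : Submodule F V} (hW : Inv a W) (hN : Alt.NDon B W)
    {m m' : Multiset ℕ} (h1 : HasType (a.restrict hW) m) (h2 : HasType (a.restrict (inv_orth hG hW)) m') :
    HasType a (m + m') := by
  refine hasType_equiv (Submodule.prodEquivOfIsCompl _ _ (isCompl_orth hG hN)) (fun x => ?_) (hasType_prod h1 h2)
  simp only [Submodule.coe_prodEquivOfIsCompl', LinearMap.prodMap_apply, map_add]
  rfl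

theorem sum_mono {m : Multiset ℕ} {e : ℕ} (h : ∀ x ∈ m, x ≤ e) :
    (m.map fun x => x - (e - 1)).sum ≤ m.count e + (if e = 0 then m.card else 0) := by
  induction m using Multiset.induction with
  | empty => simp
  | cons x m ih =>
    have := h x (Multiset.mem_cons_self x m)
    have := ih fun y hy => h y (Multiset.mem_cons_of_mem hy)
    simp only [Multiset.map_cons, Multiset.sum_cons, Multiset.count_cons, Multiset.card_cons]
    split_ifs at this ⊢ <;> omega

theorem eq_replicate {m : Multiset ℕ} {e k : ℕ} (h0 : (0 : ℕ) ∉ m) (he : 0 < e) (h : ∀ x ∈ m, x ≤ e)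
    (hsum : m.sum = k * e) (hk : k ≤ (m.map fun x => x - (e - 1)).sum) : m = Multiset.replicate k e := by
  have hc := sum_mono h
  rw [if_neg (by omega)] at hc
  have hle : Multiset.replicate (m.count e) e ≤ m := Multiset.le_count_iff_replicate_le.1 le_rfl
  obtain ⟨t, ht⟩ := Multiset.le_iff_exists_add.1 hle
  have h1 : m.sum = m.count e * e + t.sum := by
    conv_lhs => rw [ht]
    rw [Multiset.sum_add, Multiset.sum_replicate, smul_eq_mul]
  have h2 : k * e ≤ m.count e * e := Nat.mul_le_mul_right _ (by omega)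
  have ht0 : t.sum = 0 := by omega
  have hck : m.count e = k := Nat.eq_of_mul_eq_mul_right he (by omega)
  have ht' : t = 0 := by
    refine Multiset.eq_zero_of_forall_notMem fun x hx => h0 ?_
    have := Multiset.single_le_sum (fun y _ => Nat.zero_le y) x hx
    rw [ht0] at this
    rw [ht, show (0 : ℕ) = x by omega]
    exact Multiset.mem_add.2 (Or.inr hx)
  rw [ht, ht', add_zero, hck]

/-- A non-degenerate invariant subspace spanned by `k` strings of full height. -/
theorem exists_top_block (hG : Good B a) {e k : ℕ} (he : 0 < e) (hd : (a - 1) ^ e = 0) (u : Fin k → V)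
    (hgram : ∀ c : Fin k → F, (∀ l', ∑ l, c l * B (((a - 1) ^ (e - 1)) (u l)) (u l') = 0) → c = 0) :
    ∃ (W : Submodule F V) (hW : Inv a W), Alt.NDon B W ∧ HasType (a.restrict hW) (Multiset.replicate k e) := by
  classical
  have hc := ctx_of_good hG
  set N := a - 1 with hN
  obtain ⟨w, hw, hwN, hadj⟩ := exists_adj hc hd
  have hNe : N * N ^ (e - 1) = 0 := by rw [← pow_succ', Nat.sub_add_cancel he, hd]
  have hw1 : ∀ j, w ^ j * N ^ (e - 1) = N ^ (e - 1) := by
    intro j
    induction j with
    | zero => rw [pow_zero, one_mul]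
    | succ j ih =>
      rw [pow_succ, mul_assoc, show w * N ^ (e - 1) = N ^ (e - 1) from ?_, ih]
      have h : w * (N * N ^ (e - 1)) = (1 - w) * N ^ (e - 1) := by rw [← mul_assoc, hwN]
      rw [hNe, mul_zero, sub_mul, one_mul, eq_comm, sub_eq_zero] at h
      exact h.symm
  set g : Fin k × Fin e → V := fun x => (N ^ (x.2 : ℕ)) (u x.1) with hg
  have hpair : ∀ c : Fin k × Fin e → F, (∀ y, ∑ x, c x * B (g x) (g y) = 0) → c = 0 := by
    intro c h
    suffices hs : ∀ (j : ℕ) (hj : j < e) (l : Fin k), c (l, ⟨j, hj⟩) = 0 from funext fun x => hs _ x.2.2 x.1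
    intro j
    induction j using Nat.strong_induction_on with
    | _ j ih =>
      intro hj
      refine congrFun (hgram (fun l => c (l, ⟨j, hj⟩)) fun l' => ?_)
      have h1 := h (l', ⟨e - 1 - j, by omega⟩)
      rw [Fintype.sum_prod_type, Finset.sum_congr rfl fun l _ => Finset.sum_eq_single (⟨j, hj⟩ : Fin e) ?_ ?_] at h1
      · have hterm : ∀ l, B (g (l, ⟨j, hj⟩)) (g (l', ⟨e - 1 - j, by omega⟩)) =
            (-1 : F) ^ j * (-1 : F) ^ (e - 1) * B ((N ^ (e - 1)) (u l)) (u l') := by
          intro l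
          show B ((N ^ j) (u l)) ((N ^ (e - 1 - j)) (u l')) = _
          rw [hadj, ← Module.End.mul_apply, mul_assoc, ← pow_add, show j + (e - 1 - j) = e - 1 by omega, hw1,
            hadj (e - 1) (u l) (u l'), hw1, ← mul_assoc, mul_assoc ((-1 : F) ^ j), ← pow_add, Even.neg_one_pow ⟨_, rfl⟩,
            mul_one]
        simp only [hterm] at h1
        have hu : ((-1 : F) ^ j * (-1 : F) ^ (e - 1)) ≠ 0 :=
          mul_ne_zero (pow_ne_zero _ (neg_ne_zero.2 one_ne_zero)) (pow_ne_zero _ (neg_ne_zero.2 one_ne_zero))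
        refine (mul_eq_zero.1 (?_ : ((-1 : F) ^ j * (-1 : F) ^ (e - 1)) * ∑ l, c (l, ⟨j, hj⟩) * B ((N ^ (e - 1)) (u l)) (u l') = 0)).resolve_left hu
        rw [Finset.mul_sum]
        refine Eq.trans (Finset.sum_congr rfl fun l _ => ?_) h1
        ring
      · intro s _ hs
        rcases Nat.lt_or_ge (s : ℕ) j with h' | h'
        · rw [show (s : Fin e) = ⟨(s : ℕ), s.2⟩ from rfl, ih _ h' s.2 l, zero_mul]
        · have : j < (s : ℕ) := lt_of_le_of_ne h' fun h'' => hs (Fin.ext h''.symm)
          refine mul_eq_zero_of_right _ ?_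
          show B ((N ^ (s : ℕ)) (u l)) ((N ^ (e - 1 - j)) (u l')) = 0
          rw [hadj, ← Module.End.mul_apply, mul_assoc, ← pow_add,
            show (s : ℕ) + (e - 1 - j) = e + ((s : ℕ) - j - 1) by omega, pow_add, hd, zero_mul, mul_zero,
            LinearMap.zero_apply, map_zero, mul_zero]
      · exact fun hn => absurd (Finset.mem_univ _) hn
  have hli : LinearIndependent F g := by
    refine Fintype.linearIndependent_iff.2 fun c hc x => congrFun (hpair c fun y => ?_) x
    have := congrArg (fun v => B v (g y)) hc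
    simpa [map_sum, LinearMap.sum_apply] using this
  set W := Submodule.span F (Set.range g) with hWdef
  have hW : Inv a W := inv_span (by
    rintro _ ⟨⟨l, j⟩, rfl⟩
    show a ((N ^ (j : ℕ)) (u l)) ∈ _
    rw [show a ((N ^ (j : ℕ)) (u l)) = N ((N ^ (j : ℕ)) (u l)) + (N ^ (j : ℕ)) (u l) by simp [hN]]
    refine add_mem ?_ (Submodule.subset_span ⟨(l, j), rfl⟩)
    rw [← Module.End.mul_apply, ← pow_succ']
    rcases Nat.lt_or_ge ((j : ℕ) + 1) e with h | h
    · exact Submodule.subset_span ⟨(l, ⟨_, h⟩), rfl⟩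
    · rw [show (j : ℕ) + 1 = e by omega, hd, LinearMap.zero_apply]
      exact Submodule.zero_mem _)
  refine ⟨W, hW, fun x hx h0 => ?_, ?_⟩
  · obtain ⟨c, rfl⟩ := (Submodule.mem_span_range_iff_exists_fun F).1 hx
    by_contra hcn
    push Not at hcn
    refine h0 ?_
    rw [hpair c fun y => by simpa [map_sum, LinearMap.sum_apply] using hcn _ (Submodule.subset_span ⟨y, rfl⟩)]
    simp
  · have hWe := nil_restrict hW (hd : (a - 1) ^ e = 0)
    obtain ⟨m, hm0, hm⟩ := exists_hasType (a.restrict hW) hWe
    convert hm using 1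
    refine (eq_replicate hm0 he ((sub_one_pow_eq_zero_iff hm e).1 hWe) ?_ ?_).symm
    · rw [sum_eq_finrank hm, hWdef, finrank_span_eq_card hli, Fintype.card_prod, Fintype.card_fin, Fintype.card_fin]
    · rw [← finrank_range_sub_one_pow hm]
      let f : Fin k → V := fun l => g (l, ⟨e - 1, by omega⟩)
      have hfli : LinearIndependent F f := hli.comp _ fun x y h => (Prod.mk.injEq _ _ _ _ ▸ h).1
      calc k = finrank F (Submodule.span F (Set.range f)) := by rw [finrank_span_eq_card hfli, Fintype.card_fin]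
        _ ≤ finrank F ((LinearMap.range ((a.restrict hW - 1) ^ (e - 1))).map W.subtype) := by
          refine Submodule.finrank_mono (Submodule.span_le.2 ?_)
          rintro _ ⟨l, rfl⟩
          exact ⟨_, ⟨⟨u l, Submodule.subset_span ⟨(l, ⟨0, he⟩), by simp [hg]⟩⟩, rfl⟩, by
            rw [Submodule.subtype_apply, pow_restrict_apply]⟩
        _ = _ := finrank_lift _

theorem exists_block_at_max (hG : Good B a) (h2 : (2 : F) ≠ 0) {μ : Multiset ℕ} (hμ : HasType a μ) {e : ℕ}
    (he : e ∈ μ) (he0 : 0 < e) (hmax : ∀ x ∈ μ, x ≤ e) :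
    ∃ (W : Submodule F V) (hW : Inv a W), Alt.NDon B W ∧
      HasType (a.restrict hW) (Multiset.replicate (if Even e then 1 else 2) e) := by
  have hd : (a - 1) ^ e = 0 := (sub_one_pow_eq_zero_iff hμ e).2 hmax
  obtain ⟨u₀, hu₀⟩ : ∃ u, ((a - 1) ^ (e - 1)) u ≠ 0 := by
    by_contra hc
    push Not at hc
    have := (sub_one_pow_eq_zero_iff hμ (e - 1)).1 (LinearMap.ext hc) e he
    omega
  obtain ⟨w, hw, hwN, hadj⟩ := exists_adj (ctx_of_good hG) hd
  set N := a - 1 with hN
  have hNe : N * N ^ (e - 1) = 0 := by rw [← pow_succ', Nat.sub_add_cancel he0, hd]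
  have hw1 : ∀ j, w ^ j * N ^ (e - 1) = N ^ (e - 1) := by
    intro j
    induction j with
    | zero => rw [pow_zero, one_mul]
    | succ j ih =>
      rw [pow_succ, mul_assoc, show w * N ^ (e - 1) = N ^ (e - 1) from ?_, ih]
      have h : w * (N * N ^ (e - 1)) = (1 - w) * N ^ (e - 1) := by rw [← mul_assoc, hwN]
      rw [hNe, mul_zero, sub_mul, one_mul, eq_comm, sub_eq_zero] at h
      exact h.symm
  set β : V → V → F := fun x y => B ((N ^ (e - 1)) x) y with hβ
  have hskew : ∀ x y, β x y = (-1 : F) ^ e * β y x := fun x y => by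
    simp only [hβ]
    rw [hadj, hw1, hG.skew, show (-1 : F) ^ e = (-1 : F) ^ (e - 1) * -1 by rw [← pow_succ, Nat.sub_add_cancel he0]]
    ring
  obtain ⟨v₀, hv₀⟩ : ∃ v, β u₀ v ≠ 0 := by
    by_contra hc
    push Not at hc
    exact hu₀ (hG.sep _ hc)
  by_cases heven : Even e
  · rw [if_pos heven]
    obtain ⟨u, hu⟩ : ∃ u, β u u ≠ 0 := by
      by_contra hc
      push Not at hc
      have h1 := hc (u₀ + v₀)
      have h3 := hskew v₀ u₀
      rw [heven.neg_one_pow, one_mul] at h3
      simp only [hβ, map_add, LinearMap.add_apply] at h1 h3 hv₀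
      have e1 := hc u₀
      have e2 := hc v₀
      simp only [hβ] at e1 e2
      refine hv₀ ((mul_eq_zero.1 (?_ : (2 : F) * B ((N ^ (e - 1)) u₀) v₀ = 0)).resolve_left h2)
      linear_combination h1 - h3 - e1 - e2
    refine exists_top_block hG he0 hd ![u] fun c hc => funext fun l => ?_
    have := hc 0
    simp only [Fin.sum_univ_one] at this
    rw [Subsingleton.elim l 0]
    exact (mul_eq_zero.1 this).resolve_right hu
  · rw [if_neg heven]
    have hodd := (Nat.not_even_iff_odd.1 heven)
    have hzero : ∀ x, β x x = 0 := fun x => by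
      have h := hskew x x
      rw [hodd.neg_one_pow] at h
      refine (mul_eq_zero.1 (?_ : (2 : F) * β x x = 0)).resolve_left h2
      linear_combination h
    refine exists_top_block hG he0 hd ![u₀, v₀] fun c hc => ?_
    have h0 := hc 0
    have h1 := hc 1
    simp only [Fin.sum_univ_two, Matrix.cons_val_zero, Matrix.cons_val_one] at h0 h1
    change c 0 * β u₀ u₀ + c 1 * β v₀ u₀ = 0 at h0
    change c 0 * β u₀ v₀ + c 1 * β v₀ v₀ = 0 at h1
    rw [hskew v₀ u₀, hodd.neg_one_pow, hzero, mul_zero, zero_add] at h0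
    rw [hzero, mul_zero, add_zero] at h1
    funext l
    fin_cases l
    · exact (mul_eq_zero.1 h1).resolve_right hv₀
    · exact (mul_eq_zero.1 h0).resolve_right (by simpa using hv₀)

/-- Every admissible part of the type occurs as a non-degenerate invariant subspace. -/
theorem exists_nd_of_type (h2 : (2 : F) ≠ 0) :
    ∀ (μ : Multiset ℕ) {U : Type v} [AddCommGroup U] [Module F U] [FiniteDimensional F U]
      (B : LinearMap.BilinForm F U) (a : Module.End F U), Good B a → HasType a μ → (0 : ℕ) ∉ μ →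
      ∀ ν, ν ≤ μ → (∀ j, Odd j → Even (ν.count j)) →
        ∃ W : Submodule F U, Inv a W ∧ Alt.NDon B W ∧ finrank F W = ν.sum := by
  classical
  intro μ
  induction hn : Multiset.card μ using Nat.strong_induction_on generalizing μ with
  | _ n ih =>
    intro U _ _ _ B a hG hμ h0 ν hν hpar
    rcases eq_or_ne μ 0 with rfl | hne
    · obtain rfl : ν = 0 := Multiset.le_zero.1 hν
      exact ⟨⊥, inv_bot, fun w hw hw0 => absurd ((Submodule.mem_bot F).1 hw) hw0, by simp⟩
    obtain ⟨e, he, hmax⟩ : ∃ e ∈ μ, ∀ x ∈ μ, x ≤ e := by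
      obtain ⟨e, he, hm⟩ := μ.toFinset.exists_max_image id (by
        obtain ⟨x, hx⟩ := Multiset.exists_mem_of_ne_zero hne
        exact ⟨x, Multiset.mem_toFinset.2 hx⟩)
      exact ⟨e, Multiset.mem_toFinset.1 he, fun x hx => hm x (Multiset.mem_toFinset.2 hx)⟩
    have he0 : 0 < e := Nat.pos_of_ne_zero fun h => h0 (h ▸ he)
    obtain ⟨W, hW, hWn, hWt⟩ := exists_block_at_max hG h2 hμ he he0 hmax
    set k := if Even e then 1 else 2 with hk
    obtain ⟨μ', hμ'0, hμ'⟩ := exists_hasType (a.restrict (inv_orth hG hW))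
      (nil_restrict (inv_orth hG hW) ((sub_one_pow_eq_zero_iff hμ e).2 hmax))
    have hadd : μ = Multiset.replicate k e + μ' := hasType_unique hμ (hasType_split hG hW hWn hWt hμ') h0
      (fun h => (Multiset.mem_add.1 h).elim (fun h => by
        have := Multiset.eq_of_mem_replicate h; omega) hμ'0)
    have hk0 : 0 < k := by rw [hk]; split_ifs <;> omega
    have hrec : ∀ ν', ν' ≤ μ' → (∀ j, Odd j → Even (ν'.count j)) →
        ∃ W' : Submodule F U, W' ≤ B.orthogonal W ∧ Inv a W' ∧ Alt.NDon B W' ∧ finrank F W' = ν'.sum := by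
      intro ν' h1 h3
      obtain ⟨W', q1, q2, q3⟩ := ih (Multiset.card μ') (by
        rw [← hn, hadd, Multiset.card_add, Multiset.card_replicate]; omega) μ' rfl _ _
        (good_restrict hG (inv_orth hG hW) (ndon_orth hG hWn)) hμ' hμ'0 ν' h1 h3
      exact ⟨_, lift_le W', inv_lift q1, ndon_lift q2, (finrank_lift W').trans q3⟩
    by_cases hek : k ≤ ν.count e
    · obtain ⟨ν', hν'⟩ := Multiset.le_iff_exists_add.1 (Multiset.le_count_iff_replicate_le.1 hek)
      subst hν'
      obtain ⟨W', q0, q1, q2, q3⟩ := hrec ν' (by rw [hadd] at hν; exact le_of_add_le_add_left hν) (fun j hj => by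
        have h := hpar j hj
        rw [Multiset.count_add, Multiset.count_replicate] at h
        split_ifs at h with hje
        · subst hje
          have : k = 2 := by rw [hk, if_neg (Nat.not_even_iff_odd.2 hj)]
          rw [this] at h
          exact (Nat.even_add.1 h).1 even_two
        · simpa using h)
      obtain ⟨r1, r2⟩ := ndon_sup hG q2 hWn q0
      refine ⟨W' ⊔ W, q1.sup hW, r1, ?_⟩
      rw [r2, q3, ← sum_eq_finrank hWt, Multiset.sum_add]
      ring
    · have hcount : ν.count e = 0 := by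
        rw [hk] at hek
        split_ifs at hek with h
        · omega
        · obtain ⟨t, ht⟩ := hpar e (Nat.not_even_iff_odd.1 h)
          omega
      obtain ⟨W', q0, q1, q2, q3⟩ := hrec ν (Multiset.le_iff_count.2 fun x => by
        have h := Multiset.le_iff_count.1 hν x
        rw [hadd, Multiset.count_add, Multiset.count_replicate] at h
        split_ifs at h with hxe
        · subst hxe; omega
        · simpa using h) hpar
      exact ⟨W', q1, q2, q3⟩

theorem type_parts (hG : Good B a) {W : Submodule F V} (hW : Inv a W) (hN : Alt.NDon B W) {p : ℕ}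
    (hd : (a - 1) ^ p = 0) {μ : Multiset ℕ} (hμ : HasType a μ) (h0 : (0 : ℕ) ∉ μ) :
    ∃ ν, ν ≤ μ ∧ ν.sum = finrank F W ∧ ∀ j, Odd j → Even (ν.count j) := by
  obtain ⟨ν, hν0, hν⟩ := exists_hasType (a.restrict hW) (nil_restrict hW hd)
  obtain ⟨ν', hν'0, hν'⟩ := exists_hasType (a.restrict (inv_orth hG hW)) (nil_restrict (inv_orth hG hW) hd)
  have hadd := hasType_unique hμ (hasType_split hG hW hN hν hν') h0
    (fun h => (Multiset.mem_add.1 h).elim hν0 hν'0)
  have hG' := good_restrict hG hW hN
  exact ⟨ν, hadd ▸ Multiset.le_add_right _ _, sum_eq_finrank hν,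
    fun j hj => even_count_odd_of_alt (ctx_of_good hG') (nil_restrict hW hd) hG'.alt hν hj⟩

end Cfsg.Agent.Classical.SympElem
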