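import Cfsg.Agent.Classical.SympElem.Model
import Cfsg.Agent.Classical.Elusive.Block

/-!
# Symplectic elements of prime order with prescribed fixed space
-/

set_option autoImplicit false

namespace Cfsg.Agent.Classical.SympElem

open Module Polynomial Matrix Cfsg.Agent.SympConj Cfsg.Agent.MatModule Cfsg.Agent.Classical.Elusive

universe u v

variable {F : Type u} [Field F]

/-- For a semisimple map the eigenspace of `1` is as large as the multiplicity. -/
theorem le_finrank_fx [Fintype F] {V : Type v} [AddCommGroup V] [Module F V] [FiniteDimensional F V]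
    {a : Module.End F V} {r : ℕ} [Fact r.Prime] (hr : (r : F) ≠ 0) (har : a ^ r = 1) {k : ℕ} {g : F[X]}
    (hchar : a.charpoly = (X - C 1) ^ k * g) : k ≤ finrank F (fx a) := by
  classical
  have hX : aeval a (X ^ r - C (1 : F)) = 0 := aeval_pow_sub (by rw [har, one_smul])
  obtain ⟨ι, hι, s, hs, hirr, Φ, hΦ⟩ := exists_rootMul a (squarefree_pow_sub hr one_ne_zero) hX
  set S := Finset.univ.filter fun j => s j = X - C (1 : F) with hS
  have hle : piece Φ S ≤ fx a := fun v hv => mem_fx (by
    have := Module.End.mem_eigenspace_iff.1 (piece_le_eigenspace hΦ (S := S) (c := (1 : F))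
      (fun j hj => (Finset.mem_filter.1 hj).2) hv)
    rwa [one_smul] at this)
  refine le_trans ?_ (Submodule.finrank_mono hle)
  rw [finrank_piece hs, Finset.sum_congr rfl fun j hj => by
    rw [(Finset.mem_filter.1 hj).2, natDegree_X_sub_C], Finset.sum_const, smul_eq_mul, mul_one]
  have hne : a.charpoly ≠ 0 := a.charpoly_monic.ne_zero
  have h1 : k ≤ rootMultiplicity 1 a.charpoly := (le_rootMultiplicity_iff hne).2 (Dvd.intro g hchar.symm)
  refine h1.trans ?_
  have h2 : a.charpoly = (X - C (1 : F)) ^ S.card * ∏ j ∈ Sᶜ, s j := by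
    rw [charpoly_eq hΦ hs, ← Finset.prod_mul_prod_compl S, Finset.prod_congr rfl fun j hj =>
      (Finset.mem_filter.1 hj).2, Finset.prod_const]
  have hne' : (∏ j ∈ Sᶜ, s j) ≠ 0 := Finset.prod_ne_zero_iff.2 fun j _ => (hs j).ne_zero
  rw [h2, rootMultiplicity_mul (mul_ne_zero (pow_ne_zero _ (X_sub_C_ne_zero 1)) hne'), rootMultiplicity_X_sub_C_pow,
    rootMultiplicity_eq_zero, add_zero]
  rw [IsRoot.def, eval_prod, Finset.prod_eq_zero_iff]
  rintro ⟨j, hj, hj0⟩
  refine Finset.mem_compl.1 hj (Finset.mem_filter.2 ⟨Finset.mem_univ _, ?_⟩)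
  exact eq_of_monic_of_associated (hs j) (monic_X_sub_C 1)
    ((irreducible_X_sub_C 1).associated_of_dvd (hirr j) (dvd_iff_isRoot.2 hj0)).symm

/-- The lower bound for a hyperbolic element. -/
theorem exists_hyperbolic_eq [Fintype F] {r d : ℕ} (M : Matrix.SpecialLinearGroup (Fin d) F) (hM : M ^ r = 1) :
    ∃ x : Matrix.symplecticGroup (Fin d) F, x ^ r = 1 ∧
      finrank F (fx (Matrix.toLin' x.1)) =
        2 * finrank F (Module.End.eigenspace (Matrix.toLin' M.1) 1) := by
  classical
  set A := M.1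
  set A' := (M⁻¹ : Matrix.SpecialLinearGroup (Fin d) F).1ᵀ with hA'
  have hAA : Aᵀ * A' = 1 := by
    rw [hA', ← Matrix.transpose_mul, ← Matrix.SpecialLinearGroup.coe_mul, inv_mul_cancel,
      Matrix.SpecialLinearGroup.coe_one, Matrix.transpose_one]
  have hA'A : A'ᵀ * A = 1 := by
    rw [hA', Matrix.transpose_transpose, ← Matrix.SpecialLinearGroup.coe_mul, inv_mul_cancel,
      Matrix.SpecialLinearGroup.coe_one]
  have hAA' : A' * Aᵀ = 1 := mul_eq_one_comm.1 hAA
  have hmem : Matrix.fromBlocks A 0 0 A' ∈ Matrix.symplecticGroup (Fin d) F := by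
    rw [SymplecticGroup.mem_iff']
    simp [Matrix.J, Matrix.fromBlocks_transpose, Matrix.fromBlocks_multiply, hAA, hA'A]
  have hpow : ∀ k : ℕ, (Matrix.fromBlocks A 0 0 A') ^ k = Matrix.fromBlocks (A ^ k) 0 0 (A' ^ k) := by
    intro k
    induction k with
    | zero => simp [Matrix.fromBlocks_one]
    | succ k ih => rw [pow_succ, ih, Matrix.fromBlocks_multiply]; simp [pow_succ]
  refine ⟨⟨_, hmem⟩, Subtype.ext ?_, ?_⟩
  · rw [SubmonoidClass.coe_pow]
    show (Matrix.fromBlocks A 0 0 A') ^ r = 1
    rw [hpow, hA', ← Matrix.transpose_pow, ← Matrix.SpecialLinearGroup.coe_pow,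
      ← Matrix.SpecialLinearGroup.coe_pow, inv_pow, hM, inv_one, Matrix.SpecialLinearGroup.coe_one,
      Matrix.transpose_one, Matrix.fromBlocks_one]
  · set E := Module.End.eigenspace (Matrix.toLin' A) 1
    have hE : finrank F E = finrank F (LinearMap.ker ((Aᵀ - 1).mulVecLin)) := by
      have hker : finrank F (LinearMap.ker ((A - 1).mulVecLin)) =
          finrank F (LinearMap.ker (((A - 1)ᵀ).mulVecLin)) := by
        have h1 := (A - 1).mulVecLin.finrank_range_add_finrank_ker
        have h2 := ((A - 1)ᵀ).mulVecLin.finrank_range_add_finrank_ker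
        have h3 : ((A - 1)ᵀ).rank = (A - 1).rank := Matrix.rank_transpose _
        rw [Matrix.rank, Matrix.rank] at h3
        omega
      rw [show (Aᵀ - 1) = (A - 1)ᵀ by simp, ← hker]
      congr 2 <;> ext v <;> simp [E, sub_eq_zero, Matrix.sub_mulVec]
    have hmem1 : ∀ a b : Fin d → F, A *ᵥ a = a → Aᵀ *ᵥ b = b →
        Sum.elim a b ∈ fx (Matrix.toLin' (Matrix.fromBlocks A 0 0 A')) := by
      intro a b ha hb
      refine mem_fx ?_
      rw [Matrix.toLin'_apply, Matrix.fromBlocks_mulVec]
      have hb' : A' *ᵥ b = b := by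
        conv_lhs => rw [← hb]
        rw [Matrix.mulVec_mulVec, hAA', Matrix.one_mulVec]
      simp [Sum.elim_comp_inl, Sum.elim_comp_inr, ha, hb']
    let e : fx (Matrix.toLin' (Matrix.fromBlocks A 0 0 A')) ≃ₗ[F]
        E × LinearMap.ker ((Aᵀ - 1).mulVecLin) :=
      { toFun := fun v => (⟨(v : Fin d ⊕ Fin d → F) ∘ Sum.inl, Module.End.mem_eigenspace_iff.2 (by
            have h := fx_apply v.2
            rw [Matrix.toLin'_apply, Matrix.fromBlocks_mulVec] at h
            funext j
            have := congrFun h (Sum.inl j)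
            simpa [Matrix.toLin'_apply] using this)⟩,
          ⟨(v : Fin d ⊕ Fin d → F) ∘ Sum.inr, by
            have h := fx_apply v.2
            rw [Matrix.toLin'_apply, Matrix.fromBlocks_mulVec] at h
            have h1 : A' *ᵥ ((v : Fin d ⊕ Fin d → F) ∘ Sum.inr) = (v : Fin d ⊕ Fin d → F) ∘ Sum.inr :=
              funext fun j => by simpa using congrFun h (Sum.inr j)
            rw [LinearMap.mem_ker, Matrix.mulVecLin_apply, Matrix.sub_mulVec, Matrix.one_mulVec, sub_eq_zero]
            conv_lhs => rw [← h1]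
            rw [Matrix.mulVec_mulVec, hAA, Matrix.one_mulVec]⟩)
        map_add' := fun v w => rfl
        map_smul' := fun c v => rfl
        invFun := fun p => ⟨Sum.elim p.1.1 p.2.1, hmem1 _ _ (by
          have := Module.End.mem_eigenspace_iff.1 p.1.2
          rwa [Matrix.toLin'_apply, one_smul] at this) (by
          have := p.2.2
          rwa [LinearMap.mem_ker, Matrix.mulVecLin_apply, Matrix.sub_mulVec, Matrix.one_mulVec, sub_eq_zero] at this)⟩
        left_inv := fun v => Subtype.ext (funext fun j => by rcases j with j | j <;> rfl)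
        right_inv := fun p => rfl }
    refine e.finrank_eq.trans ?_
    rw [Module.finrank_prod, ← hE, two_mul]

/-- An element of order `r` moving exactly `c P` dimensions. -/
theorem exists_elem [Fintype F] {r : ℕ} [Fact r.Prime] (hr : (r : F) ≠ 0) {i c d P : ℕ}
    (hi : i = orderOf (Fintype.card F : ZMod r)) (hc : c = if Even i then i else 2 * i) (hi1 : i ≠ 1)
    (hP : 1 ≤ P) (hle : c * P ≤ 2 * d) :
    ∃ x : Matrix.symplecticGroup (Fin d) F, x ^ r = 1 ∧
      finrank F (fx (Matrix.toLin' x.1)) = 2 * d - c * P := by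
  subst hi
  by_cases heven : Even (orderOf (Fintype.card F : ZMod r))
  · rw [if_pos heven] at hc
    obtain ⟨h, hh⟩ := heven
    obtain ⟨t, fs, ht, -, hfs⟩ := exists_factors (F := F) hr
    have hr2 := (Fact.out : r.Prime).two_le
    have ht0 : 0 < t := Nat.pos_of_ne_zero fun h0 => by rw [h0, zero_mul] at ht; omega
    have hcP : c * P = 2 * (P * h) := by rw [hc, hh]; ring
    obtain ⟨x, hx, hxf⟩ : HasElem r d ((X - C (1 : F)) ^ (2 * (d - P * h)) * ∏ _l : Fin P, fs ⟨0, ht0⟩) := by
      have h1 := hasElem_add (hasElem_one (F := F) r (d - P * h))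
        (hasElem_prod hr hh (fun _ : Fin P => fs ⟨0, ht0⟩) fun _ => hfs _)
      rwa [show d - P * h + P * h = d by omega] at h1
    have hchar : (Matrix.toLin' x.1).charpoly = (X - C (1 : F)) ^ (2 * (d - P * h)) * ∏ _l : Fin P, fs ⟨0, ht0⟩ := by
      rw [Matrix.charpoly_toLin', hxf]
    refine ⟨x, hx, le_antisymm ((finrank_fx_le hchar ?_).trans (by omega))
      (le_trans (by omega) (le_finrank_fx hr (toLin'_pow_one x hx) hchar))⟩
    rw [eval_prod, Finset.prod_ne_zero_iff]
    exact fun _ _ => eval_one_cyclo hr (hfs _).2.2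
  · rw [if_neg heven] at hc
    subst hc
    have e : 2 * orderOf (Fintype.card F : ZMod r) * P = 2 * (orderOf (Fintype.card F : ZMod r) * P) := mul_assoc _ _ _
    obtain ⟨M, hM, hMe, -⟩ := exists_block (F := F) (n := d) (r := r) (k := P) hr hi1 hP (by omega)
    have hM1 : M ^ r = 1 := Subtype.ext (by rw [hM, one_smul]; rfl)
    obtain ⟨x, hx, hxf⟩ := exists_hyperbolic_eq M hM1
    exact ⟨x, hx, by rw [hxf, hMe]; omega⟩

end Cfsg.Agent.Classical.SympElem
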